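import Cfsg.Agent.Lib.HalfClasses.Count
import Cfsg.Agent.Lib.ZStar.Elements
import Cfsg.Agent.Lib.ZStar.UniqueCase
import Cfsg.Agent.Lib.Transfer.Fusion

/-!
# Traces of classes on a Sylow 2-subgroup: elementary facts
-/

set_option autoImplicit false

namespace Cfsg.Agent.Lib.HalfClasses

open Subgroup

universe u

variable {G : Type u} [Group G] {P : Sylow 2 G}

/-- `x` is fixed by every element of `N(P)` modulo `⟨z⟩` (`z` an involution). -/
def FixedMod (P : Sylow 2 G) (z x : G) : Prop :=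
  ∀ n ∈ normalizer ((P : Subgroup G) : Set G), n * x * n⁻¹ = x ∨ n * x * n⁻¹ = x * z

theorem involutionThm : ZStar.Elements.InvolutionThm.{u} := fun _ _ _ P t ht htP h =>
  ZStar.UniqueCase.zstar P t ht htP h

variable [Finite G]

theorem one_le_trace {x : G} (hx : x ∈ (P : Subgroup G)) : 1 ≤ traceSize (P : Subgroup G) x :=
  haveI : Nonempty {y : G // y ∈ (P : Subgroup G) ∧ IsConj x y} := ⟨⟨x, hx, IsConj.refl _⟩⟩
  Nat.card_pos

/-- A set of conjugates in `P` bounds the trace from below. -/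
theorem le_trace {x : G} (s : Finset G) (hs : ∀ y ∈ s, y ∈ (P : Subgroup G) ∧ IsConj x y) :
    s.card ≤ traceSize (P : Subgroup G) x := by
  rw [traceSize, ← Nat.card_eq_finsetCard s]
  exact Nat.card_le_card_of_injective (fun y => ⟨(y : G), hs y y.2⟩) fun a b hab =>
    Subtype.ext (congrArg Subtype.val hab :)

theorem three_le_trace {x a b c : G} (ha : a ∈ (P : Subgroup G)) (hb : b ∈ (P : Subgroup G))
    (hc : c ∈ (P : Subgroup G)) (h1 : IsConj x a) (h2 : IsConj x b) (h3 : IsConj x c)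
    (hab : a ≠ b) (hac : a ≠ c) (hbc : b ≠ c) : 3 ≤ traceSize (P : Subgroup G) x := by
  classical
  have := le_trace (P := P) (x := x) {a, b, c} (by
    intro y hy
    simp only [Finset.mem_insert, Finset.mem_singleton] at hy
    rcases hy with rfl | rfl | rfl <;> exact ⟨by assumption, by assumption⟩)
  rwa [Finset.card_insert_of_notMem (by simp [hab, hac]), Finset.card_pair hbc] at this

theorem four_le_trace {x a b c d : G} (ha : a ∈ (P : Subgroup G)) (hb : b ∈ (P : Subgroup G))
    (hc : c ∈ (P : Subgroup G)) (hd : d ∈ (P : Subgroup G)) (h1 : IsConj x a) (h2 : IsConj x b)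
    (h3 : IsConj x c) (h4 : IsConj x d) (hab : a ≠ b) (hac : a ≠ c) (had : a ≠ d) (hbc : b ≠ c)
    (hbd : b ≠ d) (hcd : c ≠ d) : 4 ≤ traceSize (P : Subgroup G) x := by
  classical
  have := le_trace (P := P) (x := x) {a, b, c, d} (by
    intro y hy
    simp only [Finset.mem_insert, Finset.mem_singleton] at hy
    rcases hy with rfl | rfl | rfl | rfl <;> exact ⟨by assumption, by assumption⟩)
  rwa [Finset.card_insert_of_notMem (by simp [hab, hac, had]),
    Finset.card_insert_of_notMem (by simp [hbc, hbd]), Finset.card_pair hcd] at this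

theorem exists_conj_ne {x : G} (hx : x ∈ (P : Subgroup G))
    (h : traceSize (P : Subgroup G) x ≠ 1) :
    ∃ y ∈ (P : Subgroup G), IsConj x y ∧ y ≠ x := by
  by_contra hc
  push Not at hc
  haveI : Subsingleton {y : G // y ∈ (P : Subgroup G) ∧ IsConj x y} :=
    ⟨fun a b => Subtype.ext ((hc a.1 a.2.1 a.2.2).trans (hc b.1 b.2.1 b.2.2).symm)⟩
  haveI : Nonempty {y : G // y ∈ (P : Subgroup G) ∧ IsConj x y} := ⟨⟨x, hx, IsConj.refl _⟩⟩
  exact h (Nat.card_eq_one_iff_unique.2 ⟨inferInstance, inferInstance⟩)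

/-- An element whose only conjugate in `P` is itself is central when the odd core is trivial. -/
theorem mem_center_of_trace_one (hO : Cfsg.oddCore G = ⊥) {x : G} (hx : x ∈ (P : Subgroup G))
    (h : traceSize (P : Subgroup G) x = 1) : x ∈ center G := by
  have hiso : ZStar.Elements.IsolatedIn P x := by
    refine ⟨hx, fun g hg => ?_⟩
    have hs : Subsingleton {y : G // y ∈ (P : Subgroup G) ∧ IsConj x y} :=
      (Nat.card_eq_one_iff_unique.1 h).1
    exact congrArg Subtype.val (hs.allEq ⟨g * x * g⁻¹, hg, isConj_iff.2 ⟨g, rfl⟩⟩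
      ⟨x, hx, IsConj.refl _⟩)
  refine mem_center_iff.2 fun g => ?_
  have := ZStar.Elements.commutator_mem_oddCore involutionThm _ G P x rfl hiso g
  rw [hO, mem_bot, mul_inv_eq_one] at this
  exact (mul_inv_eq_iff_eq_mul.1 this).symm

theorem trace_one_of_mem_center {x : G} (hx : x ∈ (P : Subgroup G)) (hc : x ∈ center G) :
    traceSize (P : Subgroup G) x = 1 := by
  refine Nat.card_eq_one_iff_unique.2 ⟨⟨?_⟩, ⟨⟨x, hx, IsConj.refl _⟩⟩⟩
  have key : ∀ w : G, IsConj x w → w = x := by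
    intro w hw
    obtain ⟨g, rfl⟩ := isConj_iff.1 hw
    rw [mem_center_iff.1 hc g, mul_inv_cancel_right]
  rintro ⟨a, -, ha⟩ ⟨b, -, hb⟩
  exact Subtype.ext ((key a ha).trans (key b hb).symm)

/-- A 2-element normalizing `P` lies in `P`. -/
theorem mem_of_pow {n : G} (hn : n ∈ normalizer ((P : Subgroup G) : Set G)) {k : ℕ}
    (hk : n ^ 2 ^ k = 1) : n ∈ (P : Subgroup G) := by
  obtain ⟨j, -, hj⟩ := (Nat.dvd_prime_pow Nat.prime_two).1 (orderOf_dvd_of_pow_eq_one hk)
  have hp : IsPGroup 2 (zpowers n) := IsPGroup.of_card (n := j) (by rw [Nat.card_zpowers, hj])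
  have h : n ∈ zpowers n ⊓ normalizer ((P : Subgroup G) : Set G) := ⟨mem_zpowers n, hn⟩
  exact ((hp.inf_normalizer_sylow P).le h).2

/-- No element of `N(P)` exchanges two different elements centralized by `P`. -/
theorem no_swap {n x y : G} (hn : n ∈ normalizer ((P : Subgroup G) : Set G))
    (hxc : ∀ s ∈ (P : Subgroup G), s * x = x * s) (h1 : n * x * n⁻¹ = y)
    (h2 : n * y * n⁻¹ = x) : y = x := by
  obtain ⟨k, m, hm, hkm⟩ : ∃ k m, Odd m ∧ orderOf n = 2 ^ k * m :=
    Nat.exists_eq_two_pow_mul_odd (orderOf_pos n).ne'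
  have hiter : ∀ i : ℕ, n ^ (2 * i + 1) * x * (n ^ (2 * i + 1))⁻¹ = y := by
    intro i
    induction i with
    | zero => simpa using h1
    | succ i ih =>
      calc n ^ (2 * (i + 1) + 1) * x * (n ^ (2 * (i + 1) + 1))⁻¹
          = n * (n * (n ^ (2 * i + 1) * x * (n ^ (2 * i + 1))⁻¹) * n⁻¹) * n⁻¹ := by
            rw [show 2 * (i + 1) + 1 = (2 * i + 1) + 1 + 1 by ring, pow_succ', pow_succ']; group
        _ = y := by rw [ih, h2, h1]
  obtain ⟨i, hi⟩ := hm
  have hmP : n ^ m ∈ (P : Subgroup G) := mem_of_pow (pow_mem hn m) (k := k) (by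
    rw [← pow_mul, mul_comm, ← hkm, pow_orderOf_eq_one])
  have := hiter i
  rw [← hi, hxc _ hmP, mul_inv_cancel_right] at this
  exact this.symm

/-- Burnside: conjugate elements centralized by `P` are conjugate in `N(P)`. -/
theorem burnside {x y : G} (hx : ∀ s ∈ (P : Subgroup G), s * x = x * s)
    (hy : ∀ s ∈ (P : Subgroup G), s * y = y * s) (h : IsConj x y) :
    ∃ n ∈ normalizer ((P : Subgroup G) : Set G), n * x * n⁻¹ = y := by
  obtain ⟨g, rfl⟩ := isConj_iff.1 h
  obtain ⟨n, hn, he⟩ := P.conj_eq_normalizer_conj_of_mem_centralizer x g⁻¹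
    (mem_centralizer_iff.2 hx) (mem_centralizer_iff.2 fun s hs => by
      simpa using hy s hs)
  exact ⟨n⁻¹, inv_mem hn, by simpa using he.symm⟩

/-- Central elements of `P` have no trace of size two, unless a second conjugate is moved. -/
theorem trace_ne_two {x : G} (hx : x ∈ (P : Subgroup G))
    (hxc : ∀ s ∈ (P : Subgroup G), s * x = x * s)
    (hmove : ∀ y ∈ (P : Subgroup G), IsConj x y → (∀ s ∈ (P : Subgroup G), s * y = y * s) ∨
      ∃ s ∈ (P : Subgroup G), s * y * s⁻¹ ≠ y) :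
    traceSize (P : Subgroup G) x ≠ 2 := by
  intro h
  obtain ⟨y, hyP, hxy, hyx⟩ := exists_conj_ne hx (by omega)
  have hset : ∀ w ∈ (P : Subgroup G), IsConj x w → w = x ∨ w = y := by
    intro w hw hxw
    by_contra hne
    push Not at hne
    have := three_le_trace hx hyP hw (IsConj.refl x) hxy hxw (Ne.symm hyx) (Ne.symm hne.1)
      (Ne.symm hne.2)
    omega
  rcases hmove y hyP hxy with hyc | ⟨s, hs, hsy⟩
  · obtain ⟨n, hn, hnx⟩ := burnside hxc hyc hxy
    rcases hset (n * y * n⁻¹) ((mem_normalizer_iff.1 hn y).1 hyP)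
      (hxy.trans (isConj_iff.2 ⟨n, rfl⟩)) with h' | h'
    · exact hyx (no_swap hn hxc hnx h')
    · have h'' : n * y * n⁻¹ = n * x * n⁻¹ := h'.trans hnx.symm
      exact hyx (mul_left_cancel (mul_right_cancel h''))
  · rcases hset _ (mul_mem (mul_mem hs hyP) (inv_mem hs)) (hxy.trans (isConj_iff.2 ⟨s, rfl⟩))
      with h' | h'
    · refine hyx ?_
      calc y = s⁻¹ * (s * y * s⁻¹) * s := by group
        _ = x := by rw [h', mul_assoc, ← hxc s hs, inv_mul_cancel_left]
    · exact hsy h'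

end Cfsg.Agent.Lib.HalfClasses
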