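import Mathlib.GroupTheory.Sylow
import Mathlib.Algebra.Group.Conj
import Mathlib.Algebra.BigOperators.Fin

/-!
# Fibre sizes of a map with mean fibre two, applied to the 2-element classes meeting a Sylow subgroup
-/

set_option autoImplicit false

namespace Cfsg.Agent.Lib.HalfClasses

section Mean

variable {X Y : Type*} [Fintype X] [Fintype Y] [DecidableEq Y] (φ : X → Y)

/-- The size of a fibre. -/
def fib (c : Y) : ℕ := (Finset.univ.filter fun x => φ x = c).card

theorem card_filter_fib (p : ℕ → Prop) [DecidablePred p] :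
    (Finset.univ.filter fun x => p (fib φ (φ x))).card = ∑ c, if p (fib φ c) then fib φ c else 0 := by
  rw [Finset.card_eq_sum_card_fiberwise (f := φ) (t := Finset.univ) fun _ _ => Finset.mem_univ _]
  refine Finset.sum_congr rfl fun c _ => ?_
  by_cases h : p (fib φ c)
  · rw [if_pos h, fib, Finset.filter_filter]
    refine congrArg Finset.card (Finset.filter_congr fun x _ => ?_)
    exact ⟨fun hx => hx.2, fun hx => ⟨hx ▸ h, hx⟩⟩
  · rw [if_neg h, Finset.card_eq_zero, Finset.filter_filter, Finset.filter_eq_empty_iff]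
    rintro x - ⟨hp, rfl⟩
    exact h hp

variable (hsurj : Function.Surjective φ) (h2 : Fintype.card X = 2 * Fintype.card Y)
include hsurj h2

theorem excess_eq :
    ∑ c, (if 3 ≤ fib φ c then fib φ c - 2 else 0) = ∑ c, if fib φ c = 1 then fib φ c else 0 := by
  have hX : ∑ c, fib φ c = 2 * Fintype.card Y := by
    rw [← h2, ← Finset.card_univ, Finset.card_eq_sum_card_fiberwise (f := φ) (t := Finset.univ)
      fun _ _ => Finset.mem_univ _]
    rfl
  have hpt : ∀ c, (if 3 ≤ fib φ c then fib φ c - 2 else 0) + 2 =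
      fib φ c + if fib φ c = 1 then fib φ c else 0 := by
    intro c
    obtain ⟨x, hx⟩ := hsurj c
    have : 0 < fib φ c := Finset.card_pos.2 ⟨x, by simp [hx]⟩
    split_ifs <;> omega
  have := Finset.sum_congr rfl fun c (_ : c ∈ Finset.univ) => hpt c
  rw [Finset.sum_add_distrib, Finset.sum_add_distrib, Finset.sum_const, Finset.card_univ,
    smul_eq_mul, hX] at this
  omega

theorem card_big_le :
    (Finset.univ.filter fun x => 3 ≤ fib φ (φ x)).card ≤
      3 * (Finset.univ.filter fun x => fib φ (φ x) = 1).card := by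
  rw [card_filter_fib φ (3 ≤ ·), card_filter_fib φ (· = 1), ← excess_eq φ hsurj h2, Finset.mul_sum]
  exact Finset.sum_le_sum fun c _ => by split_ifs <;> omega

theorem fib_eq_three (heq : 3 * (Finset.univ.filter fun x => fib φ (φ x) = 1).card ≤
    (Finset.univ.filter fun x => 3 ≤ fib φ (φ x)).card) (x : X) (hx : 3 ≤ fib φ (φ x)) :
    fib φ (φ x) = 3 := by
  rw [card_filter_fib φ (3 ≤ ·), card_filter_fib φ (· = 1), ← excess_eq φ hsurj h2,
    Finset.mul_sum] at heq
  by_contra h
  refine absurd heq (not_le.2 (Finset.sum_lt_sum (fun c _ => by split_ifs <;> omega)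
    ⟨φ x, Finset.mem_univ _, ?_⟩))
  rw [if_pos hx, if_pos hx]
  omega

theorem card_big_le_of_four (h4 : ∀ x, 3 ≤ fib φ (φ x) → 4 ≤ fib φ (φ x)) :
    (Finset.univ.filter fun x => 3 ≤ fib φ (φ x)).card ≤
      2 * (Finset.univ.filter fun x => fib φ (φ x) = 1).card := by
  rw [card_filter_fib φ (3 ≤ ·), card_filter_fib φ (· = 1), ← excess_eq φ hsurj h2, Finset.mul_sum]
  refine Finset.sum_le_sum fun c _ => ?_
  obtain ⟨x, rfl⟩ := hsurj c
  split_ifs with h
  · have := h4 x h
    omega
  · omega

theorem card_one_le :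
    (Finset.univ.filter fun x => fib φ (φ x) = 1).card ≤
      (Finset.univ.filter fun x => 3 ≤ fib φ (φ x)).card := by
  rw [card_filter_fib φ (3 ≤ ·), card_filter_fib φ (· = 1), ← excess_eq φ hsurj h2]
  exact Finset.sum_le_sum fun c _ => by split_ifs <;> omega

end Mean

section Classes

variable {G : Type*} [Group G]

/-- The number of conjugates of `x` in `P`. -/
noncomputable def traceSize (P : Subgroup G) (x : G) : ℕ :=
  Nat.card {y : G // y ∈ P ∧ IsConj x y}

/-- The hypothesis: the classes of 2-elements number half the order of a Sylow subgroup. -/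
def HalfClassesHyp (P : Sylow 2 G) : Prop :=
  2 * Nat.card {c : ConjClasses G // ∀ x ∈ c.carrier, ∃ k : ℕ, orderOf x = 2 ^ k} =
    Nat.card ↥(P : Subgroup G)

/-- The class map on a Sylow 2-subgroup. -/
def toClass (P : Sylow 2 G) (x : ↥(P : Subgroup G)) :
    {c : ConjClasses G // ∀ x ∈ c.carrier, ∃ k : ℕ, orderOf x = 2 ^ k} :=
  ⟨ConjClasses.mk (x : G), fun y hy => by
    obtain ⟨k, hk⟩ := IsPGroup.iff_orderOf.1 P.2 x
    have hc : IsConj y (x : G) := ConjClasses.mk_eq_mk_iff_isConj.1 (ConjClasses.mem_carrier_iff_mk_eq.1 hy)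
    obtain ⟨g, hg⟩ := isConj_iff.1 hc
    refine ⟨k, ?_⟩
    rw [← hk, ← Subgroup.orderOf_coe x, ← hg]
    exact (MulEquiv.orderOf_eq (MulAut.conj g) y).symm⟩

variable [Finite G]

theorem toClass_surjective (P : Sylow 2 G) : Function.Surjective (toClass P) := by
  rintro ⟨c, hc⟩
  obtain ⟨x, rfl⟩ := ConjClasses.mk_surjective c
  obtain ⟨k, hk⟩ := hc x ConjClasses.mem_carrier_mk
  have hp : IsPGroup 2 (Subgroup.zpowers x) :=
    IsPGroup.of_card (n := k) (by rw [Nat.card_zpowers, hk])
  obtain ⟨Q, hQ⟩ := hp.exists_le_sylow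
  obtain ⟨g, rfl⟩ := MulAction.exists_smul_eq G Q P
  refine ⟨⟨g * x * g⁻¹, ?_⟩, Subtype.ext ?_⟩
  · rw [Sylow.coe_subgroup_smul]
    simpa using Subgroup.smul_mem_pointwise_smul x (MulAut.conj g) _ (hQ (Subgroup.mem_zpowers x))
  · exact ConjClasses.mk_eq_mk_iff_isConj.2 (isConj_iff.2 ⟨g, rfl⟩).symm

theorem fib_toClass (P : Sylow 2 G) [Fintype ↥(P : Subgroup G)]
    [DecidableEq {c : ConjClasses G // ∀ x ∈ c.carrier, ∃ k : ℕ, orderOf x = 2 ^ k}]
    (x : ↥(P : Subgroup G)) : fib (toClass P) (toClass P x) = traceSize (P : Subgroup G) x := by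
  rw [fib, ← Fintype.card_subtype, ← Nat.card_eq_fintype_card]
  refine Nat.card_congr
    { toFun := fun y => ⟨(y.1 : G), y.1.2, ?_⟩
      invFun := fun y => ⟨⟨y.1, y.2.1⟩, ?_⟩
      left_inv := fun _ => rfl
      right_inv := fun _ => rfl }
  · exact (ConjClasses.mk_eq_mk_iff_isConj.1 (congrArg Subtype.val y.2)).symm
  · exact Subtype.ext (ConjClasses.mk_eq_mk_iff_isConj.2 y.2.2.symm)

variable (P : Sylow 2 G)

theorem natCard_filter [Fintype ↥(P : Subgroup G)] (p : ↥(P : Subgroup G) → Prop) [DecidablePred p] :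
    (Finset.univ.filter p).card = Nat.card {x : ↥(P : Subgroup G) // p x} := by
  rw [Nat.card_eq_fintype_card, Fintype.card_subtype]

/-- The elements with at least three conjugates in `P` are at most three times those with one. -/
theorem card_big (h : HalfClassesHyp P) :
    Nat.card {x : ↥(P : Subgroup G) // 3 ≤ traceSize (P : Subgroup G) x} ≤
      3 * Nat.card {x : ↥(P : Subgroup G) // traceSize (P : Subgroup G) x = 1} := by
  classical
  haveI := Fintype.ofFinite G
  haveI : Finite (ConjClasses G) := Finite.of_surjective _ ConjClasses.mk_surjective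
  haveI := Fintype.ofFinite (ConjClasses G)
  have := card_big_le (toClass P) (toClass_surjective P) (by
    rw [← Nat.card_eq_fintype_card, ← Nat.card_eq_fintype_card]; exact h.symm)
  simpa [fib_toClass, natCard_filter] using this

theorem trace_eq_three (h : HalfClassesHyp P)
    (heq : 3 * Nat.card {x : ↥(P : Subgroup G) // traceSize (P : Subgroup G) x = 1} ≤
      Nat.card {x : ↥(P : Subgroup G) // 3 ≤ traceSize (P : Subgroup G) x})
    (x : ↥(P : Subgroup G)) (hx : 3 ≤ traceSize (P : Subgroup G) x) :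
    traceSize (P : Subgroup G) x = 3 := by
  classical
  haveI := Fintype.ofFinite G
  haveI : Finite (ConjClasses G) := Finite.of_surjective _ ConjClasses.mk_surjective
  haveI := Fintype.ofFinite (ConjClasses G)
  have := fib_eq_three (toClass P) (toClass_surjective P) (by
    rw [← Nat.card_eq_fintype_card, ← Nat.card_eq_fintype_card]; exact h.symm)
    (by simpa [fib_toClass, natCard_filter] using heq) x (by rwa [fib_toClass])
  rwa [fib_toClass] at this

theorem card_big_four (h : HalfClassesHyp P)
    (h4 : ∀ x : ↥(P : Subgroup G), 3 ≤ traceSize (P : Subgroup G) x →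
      4 ≤ traceSize (P : Subgroup G) x) :
    Nat.card {x : ↥(P : Subgroup G) // 3 ≤ traceSize (P : Subgroup G) x} ≤
      2 * Nat.card {x : ↥(P : Subgroup G) // traceSize (P : Subgroup G) x = 1} := by
  classical
  haveI := Fintype.ofFinite G
  haveI : Finite (ConjClasses G) := Finite.of_surjective _ ConjClasses.mk_surjective
  haveI := Fintype.ofFinite (ConjClasses G)
  have := card_big_le_of_four (toClass P) (toClass_surjective P) (by
    rw [← Nat.card_eq_fintype_card, ← Nat.card_eq_fintype_card]; exact h.symm)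
    (fun x hx => by rw [fib_toClass] at hx ⊢; exact h4 x hx)
  simpa [fib_toClass, natCard_filter] using this

theorem card_one (h : HalfClassesHyp P) :
    Nat.card {x : ↥(P : Subgroup G) // traceSize (P : Subgroup G) x = 1} ≤
      Nat.card {x : ↥(P : Subgroup G) // 3 ≤ traceSize (P : Subgroup G) x} := by
  classical
  haveI := Fintype.ofFinite G
  haveI : Finite (ConjClasses G) := Finite.of_surjective _ ConjClasses.mk_surjective
  haveI := Fintype.ofFinite (ConjClasses G)
  have := card_one_le (toClass P) (toClass_surjective P) (by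
    rw [← Nat.card_eq_fintype_card, ← Nat.card_eq_fintype_card]; exact h.symm)
  simpa [fib_toClass, natCard_filter] using this

end Classes

end Cfsg.Agent.Lib.HalfClasses
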