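import Cfsg.Agent.Lib.Characters.Linear
import Cfsg.Agent.Lib.Characters.Complete

/-!
# A 2-group with commuting probability at least one half has derived subgroup of order at most two
-/

set_option autoImplicit false

universe u

namespace Cfsg.Agent.Lib.HalfClasses

open Cfsg.Agent.Lib.Characters.Basic Cfsg.Agent.Lib.Characters.Complete Cfsg.Agent.Lib.Characters.Linear

/-- Every non-linear character has squared degree at least four. -/
theorem four_mul_card_classes_le (P : Type u) [Group P] [Finite P] :
    4 * Nat.card (ConjClasses P) ≤ Nat.card P + 3 * (commutator P).index := by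
  classical
  have := Fintype.ofFinite (Cfsg.IrrCharacter P)
  choose d hd using fun χ : Cfsg.IrrCharacter P => exists_degree_pos χ
  have hsum : ∑ χ : Cfsg.IrrCharacter P, d χ ^ 2 = Nat.card P := by
    have h := finsum_degree_sq (G := P)
    rw [finsum_eq_sum_of_fintype] at h
    simp only [fun χ => (hd χ).2] at h
    exact_mod_cast h
  have hlin : (Finset.univ.filter fun χ : Cfsg.IrrCharacter P => d χ = 1).card
      = (commutator P).index := by
    rw [← card_linear, Nat.card_eq_fintype_card, Fintype.card_subtype]
    congr 1
    ext χ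
    simp [(hd χ).2]
  have hle : ∀ χ : Cfsg.IrrCharacter P, 4 ≤ d χ ^ 2 + if d χ = 1 then 3 else 0 := by
    intro χ
    by_cases h : d χ = 1
    · simp [h]
    · simp only [h, if_false, add_zero]
      have := (hd χ).1
      calc 4 = 2 ^ 2 := rfl
        _ ≤ d χ ^ 2 := Nat.pow_le_pow_left (by omega) 2
  have := Finset.sum_le_sum (s := Finset.univ) (fun χ _ => hle χ)
  rw [Finset.sum_const, Finset.sum_add_distrib, hsum, ← Finset.sum_filter, Finset.sum_const,
    hlin] at this
  rw [← card_irr_eq_card_conjClasses, Nat.card_eq_fintype_card (α := Cfsg.IrrCharacter P)]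
  simp only [smul_eq_mul, Finset.card_univ] at this
  omega

theorem card_commutator_le_two {P : Type u} [Group P] [Finite P] (hP : IsPGroup 2 P)
    (h : Nat.card P ≤ 2 * Nat.card (ConjClasses P)) : Nat.card (commutator P) ≤ 2 := by
  have h4 := four_mul_card_classes_le P
  have hmul := (commutator P).card_mul_index
  have hpos : 0 < (commutator P).index := Nat.pos_of_ne_zero Subgroup.index_ne_zero_of_finite
  have h3 : Nat.card (commutator P) ≤ 3 := by nlinarith
  obtain ⟨i, hi⟩ := IsPGroup.iff_card.1 (hP.to_subgroup (commutator P))
  rcases i with _ | _ | i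
  · omega
  · omega
  · have : 4 ≤ 2 ^ (i + 2) := by
      calc 4 = 2 ^ 2 := rfl
        _ ≤ _ := Nat.pow_le_pow_right (by norm_num) (by omega)
    omega

end Cfsg.Agent.Lib.HalfClasses
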