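import Cfsg.Agent.Lib.HalfClasses.Local
import Cfsg.Agent.Lib.HalfClasses.Degree
import Cfsg.Agent.Lib.Transfer.Hall

/-!
# `P ∩ O²(G)` is a four-group when the classes of 2-elements number `|P|/2`
-/

set_option autoImplicit false

namespace Cfsg.Agent.Lib.HalfClasses

open Subgroup Cfsg
open scoped commutatorElement

universe u

variable {G : Type u} [Group G] [Finite G] {P : Sylow 2 G}

theorem odd_iff_trivial (hO : oddCore G = ⊥) (N : Subgroup G) (hN : N.Normal)
    (hodd : Odd (Nat.card N)) : N = ⊥ :=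
  haveI := hN
  le_bot_iff.1 (hO ▸ ZStar.Elements.le_oddCore hodd)

/-- If a cyclic group carries `P ∩ O²(G)` then `G` is a 2-group. -/
theorem eq_top_of_cyclic (hO : oddCore G = ⊥)
    (hc : IsCyclic ((P : Subgroup G) ⊓ pResidual 2 G : Subgroup G)) : (P : Subgroup G) = ⊤ := by
  set M := pResidual 2 G with hM
  haveI : M.Normal := Transfer.PResidual.pResidual_normal
  obtain ⟨T, hT⟩ := Transfer.Fusion.exists_sylow_map_eq_inf M P
  haveI : IsCyclic (T : Subgroup M) := by
    haveI : IsCyclic ((T : Subgroup M).map M.subtype) := by rw [hT, inf_comm]; exact hc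
    exact isCyclic_of_surjective _
      ((T : Subgroup M).equivMapOfInjective _ M.subtype_injective).symm.surjective
  by_cases h2 : 2 ∣ Nat.card M
  · have hinj := ZStar.Elements.injective_transfer (odd_iff_trivial hO) M T
      ((Nat.minFac_eq_two_iff _).2 h2)
    have hMp : IsPGroup 2 M := T.2.of_injective _ hinj
    have hbot : pResidual 2 M = ⊥ := Transfer.PResidual.pResidual_eq_bot_iff.2 hMp
    rw [hM, Transfer.PResidual.pResidual_pResidual] at hbot
    have hsub : Subsingleton M := subsingleton_iff.1 ((subsingleton_iff_bot_eq_top (α := Subgroup M)).1 hbot.symm)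
    exact absurd (Nat.card_eq_one_iff_unique.2 ⟨hsub, inferInstance⟩) (by
      intro h1
      rw [h1] at h2
      omega)
  · have hb : M = ⊥ := odd_iff_trivial hO M inferInstance (Nat.odd_iff.2 (by omega))
    have hG : IsPGroup 2 G := Transfer.PResidual.pResidual_eq_bot_iff.1 hb
    exact (P.3 (Q := ⊤) (hG.to_subgroup ⊤) le_top).symm

theorem inf_le_commutator : (P : Subgroup G) ⊓ pResidual 2 G ≤ commutator G :=
  (Transfer.Fusion.pGroup_le_commutator_pResidual (P.2.to_le inf_le_left) inf_le_right).trans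
    (commutator_mono le_top le_top)

/-- The elements of `P` central in `G`. -/
def zCent (P : Sylow 2 G) : Subgroup G := (P : Subgroup G) ⊓ center G

theorem card_trace_one (hO : oddCore G = ⊥) :
    Nat.card {x : ↥(P : Subgroup G) // traceSize (P : Subgroup G) x = 1} = Nat.card (zCent P) :=
  Nat.card_congr
    { toFun := fun x => ⟨x.1, x.1.2, mem_center_of_trace_one hO x.1.2 x.2⟩
      invFun := fun x => ⟨⟨x, x.2.1⟩, trace_one_of_mem_center x.2.1 x.2.2⟩
      left_inv := fun _ => rfl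
      right_inv := fun _ => rfl }

/-- The conclusion of the local analysis. -/
def HasFourResidual (P : Sylow 2 G) : Prop :=
  Nat.card ((P : Subgroup G) ⊓ pResidual 2 G : Subgroup G) = 4 ∧
    (∀ q ∈ (P : Subgroup G) ⊓ pResidual 2 G, q ^ 2 = 1) ∧
    ⁅(P : Subgroup G), (P : Subgroup G)⁆ ≤ (P : Subgroup G) ⊓ pResidual 2 G

theorem four_of_small (hO : oddCore G = ⊥) (hP : (P : Subgroup G) ≠ ⊤)
    (h4 : Nat.card ((P : Subgroup G) ⊓ pResidual 2 G : Subgroup G) ≤ 4) :
    Nat.card ((P : Subgroup G) ⊓ pResidual 2 G : Subgroup G) = 4 ∧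
      ∀ q ∈ (P : Subgroup G) ⊓ pResidual 2 G, q ^ 2 = 1 := by
  set Q : Subgroup G := (P : Subgroup G) ⊓ pResidual 2 G with hQ
  have hnc : ¬ IsCyclic Q := fun h => hP (eq_top_of_cyclic hO h)
  obtain ⟨i, hi⟩ := IsPGroup.iff_card.1 (P.2.to_le (inf_le_left : Q ≤ P))
  rcases i with _ | _ | _ | i
  · haveI : Subsingleton Q := (Nat.card_eq_one_iff_unique.1 hi).1
    exact absurd isCyclic_of_subsingleton hnc
  · exact absurd (isCyclic_of_prime_card (p := 2) hi) hnc
  · refine ⟨hi, fun q hq => ?_⟩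
    obtain ⟨j, hj, hjq⟩ := (Nat.dvd_prime_pow Nat.prime_two).1
      (hi ▸ orderOf_dvd_natCard (⟨q, hq⟩ : Q))
    rw [orderOf_mk] at hjq
    rw [← orderOf_dvd_iff_pow_eq_one, hjq]
    interval_cases j
    · exact one_dvd _
    · exact dvd_refl _
    · exact absurd (isCyclic_of_orderOf_eq_card (⟨q, hq⟩ : Q) (by
        rw [orderOf_mk, hjq, hi])) hnc
  · rw [hi] at h4
    have h8 : 2 ^ (3 : ℕ) ≤ 2 ^ (i + 3) := Nat.pow_le_pow_right (by norm_num) (by omega)
    have : 2 ^ (i + 1 + 1 + 1) = 2 ^ (i + 3) := rfl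
    omega

omit [Finite G] in
theorem commutator_eq_bot_of_comm
    (hab : ∀ x ∈ (P : Subgroup G), ∀ y ∈ (P : Subgroup G), x * y = y * x) :
    ⁅(P : Subgroup G), (P : Subgroup G)⁆ = ⊥ := by
  rw [commutator_eq_bot_iff_le_centralizer]
  exact fun x hx => mem_centralizer_iff.2 fun y hy => hab y hy x hx

/-- The abelian case. -/
theorem four_abelian (hO : oddCore G = ⊥) (h : HalfClassesHyp P)
    (hab : ∀ x ∈ (P : Subgroup G), ∀ y ∈ (P : Subgroup G), x * y = y * x) : HasFourResidual P := by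
  classical
  have hne2 : ∀ x ∈ (P : Subgroup G), traceSize (P : Subgroup G) x ≠ 2 := fun x hx =>
    trace_ne_two hx (fun s hs => hab s hs x hx) fun y hy _ => Or.inl fun s hs => hab s hs y hy
  set A := {x : ↥(P : Subgroup G) // traceSize (P : Subgroup G) x = 1}
  set B := {x : ↥(P : Subgroup G) // 3 ≤ traceSize (P : Subgroup G) x}
  have hsplit : Nat.card ↥(P : Subgroup G) ≤ Nat.card A + Nat.card B := by
    rw [← Nat.card_sum]
    refine Nat.card_le_card_of_injective
      (fun x => if h1 : traceSize (P : Subgroup G) (x : G) = 1 then Sum.inl ⟨x, h1⟩ else Sum.inr ⟨x, by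
        have := one_le_trace x.2
        have := hne2 x x.2
        omega⟩) fun x y hxy => ?_
    dsimp only at hxy
    split_ifs at hxy <;>
      first
        | exact congrArg Subtype.val (Sum.inl.inj hxy)
        | exact congrArg Subtype.val (Sum.inr.inj hxy)
  have hA : Nat.card A = Nat.card (zCent P) := card_trace_one hO
  have hB : Nat.card B ≤ 3 * Nat.card A := card_big P h
  have hone : Nat.card A ≤ Nat.card B := card_one P h
  have h4 : Nat.card ↥(P : Subgroup G) ≤ 4 * Nat.card (zCent P) := by omega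
  set D : Subgroup G := commutator G ⊓ (P : Subgroup G) with hD
  have hcopP : Nat.Coprime (Nat.card ↥(P : Subgroup G)) (P : Subgroup G).index := P.card_coprime_index
  have hDZ : ∀ q, q ∈ D → q ∈ center G → q = 1 := fun q hq hqc =>
    Transfer.Hall.eq_one_of_mem_center (P : Subgroup G)
      ⟨⟨fun a b => Subtype.ext (hab _ a.2 _ b.2)⟩⟩ hcopP hq.2 hq.1 hqc
  have hmul : Nat.card D * Nat.card (zCent P) ≤ Nat.card ↥(P : Subgroup G) := by
    rw [← Nat.card_prod]
    refine Nat.card_le_card_of_injective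
      (fun w => (⟨(w.1 : G) * w.2, mul_mem w.1.2.2 w.2.2.1⟩ : ↥(P : Subgroup G))) fun v w hvw => ?_
    have h' : (v.1 : G) * v.2 = w.1 * w.2 := congrArg Subtype.val hvw
    have hq : (w.1 : G)⁻¹ * v.1 = w.2 * (v.2 : G)⁻¹ :=
      calc (w.1 : G)⁻¹ * v.1 = (w.1 : G)⁻¹ * ((v.1 : G) * v.2) * (v.2 : G)⁻¹ := by group
        _ = _ := by rw [h', inv_mul_cancel_left]
    have h1 : (w.1 : G)⁻¹ * v.1 = 1 := hDZ _ (mul_mem (inv_mem w.1.2) v.1.2)
      (hq ▸ mul_mem w.2.2.2 (inv_mem v.2.2.2))
    have e1 : (v.1 : G) = w.1 := (inv_mul_eq_one.1 h1).symm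
    rw [e1] at h'
    exact Prod.ext (Subtype.ext e1) (Subtype.ext (mul_left_cancel h'))
  have hP : (P : Subgroup G) ≠ ⊤ := by
    intro htop
    have : ∀ x : ↥(P : Subgroup G), traceSize (P : Subgroup G) x = 1 := fun x =>
      trace_one_of_mem_center x.2 (mem_center_iff.2 fun g => hab g (htop ▸ mem_top g) x x.2)
    have hBe : IsEmpty B := ⟨fun b => by have := this b.1; have := b.2; omega⟩
    haveI : Nonempty A := ⟨⟨1, this 1⟩⟩
    rw [Nat.card_eq_zero.2 (Or.inl hBe)] at hone
    have := Nat.card_pos (α := A)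
    omega
  have hz : 0 < Nat.card (zCent P) := Nat.card_pos
  have hQD : (P : Subgroup G) ⊓ pResidual 2 G ≤ D := le_inf inf_le_commutator inf_le_left
  have hQ4 := four_of_small hO hP ((card_le_of_le hQD).trans (by nlinarith))
  exact ⟨hQ4.1, hQ4.2, (commutator_eq_bot_of_comm hab).trans_le bot_le⟩

end Cfsg.Agent.Lib.HalfClasses
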