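import Cfsg.Agent.Lib.HalfClasses.Nonabelian
import Cfsg.Agent.Lib.Linear.Order
import Cfsg.Agent.Lib.Linear.Simple
import Cfsg.Agent.Lib.GWConsumers12.RankOne

/-!
# Groups with `|P|/2` classes of 2-elements: the conclusion modulo Gorenstein–Walter
-/

set_option autoImplicit false

namespace Cfsg.Agent.Lib.HalfClasses

open Subgroup Cfsg
open scoped commutatorElement

universe u

variable {G : Type u} [Group G] [Finite G] {P : Sylow 2 G}

theorem eq_bot_of_inf_sylow (hO : oddCore G = ⊥) (N : Subgroup G) [N.Normal]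
    (h : N ⊓ (P : Subgroup G) = ⊥) : N = ⊥ :=
  odd_iff_trivial hO N inferInstance <| Nat.odd_iff.2 <| by
    have := (Transfer.PResidual.not_dvd_card_iff_inf_sylow N P).2 h
    omega

theorem le_sylow_of_isPGroup (N : Subgroup G) [N.Normal] (hN : IsPGroup 2 N) :
    N ≤ (P : Subgroup G) :=
  le_sup_left.trans (P.3 (hN.to_sup_of_normal_left P.2) le_sup_right).le

theorem le_sylow_of_comm (hO : oddCore G = ⊥) (A : Subgroup G) [hAn : A.Normal]
    (hab : ∀ x ∈ A, ∀ y ∈ A, x * y = y * x) : A ≤ (P : Subgroup G) := by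
  let B : Subgroup G :=
    { carrier := {a | a ∈ A ∧ Odd (orderOf a)}
      one_mem' := ⟨one_mem _, by simp⟩
      mul_mem' := fun {a b} ⟨ha, ha'⟩ ⟨hb, hb'⟩ => ⟨mul_mem ha hb,
        (ha'.mul hb').of_dvd_nat (Commute.orderOf_mul_dvd_mul_orderOf (hab a ha b hb))⟩
      inv_mem' := fun {a} ⟨ha, ha'⟩ => ⟨inv_mem ha, by rwa [orderOf_inv]⟩ }
  haveI : B.Normal := ⟨fun a ha g => ⟨hAn.conj_mem a ha.1 g, by
    rw [← MulAut.conj_apply, MulEquiv.orderOf_eq]
    exact ha.2⟩⟩
  have hB : B = ⊥ := by
    refine odd_iff_trivial hO B inferInstance ?_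
    rw [← Nat.not_even_iff_odd, even_iff_two_dvd]
    intro h2
    obtain ⟨x, hx⟩ := exists_prime_orderOf_dvd_card' 2 h2
    have hx2 := x.2.2
    rw [orderOf_coe, hx] at hx2
    exact absurd hx2 (by decide)
  refine le_sylow_of_isPGroup A ?_
  rintro ⟨a, ha⟩
  obtain ⟨c, b, -, hb, hcb, -, ⟨k, hk⟩, hbo⟩ :=
    Transfer.PResidual.exists_pPart_mul_pPrimePart (p := 2) a (isOfFinOrder_of_finite a)
  have hb1 : b ∈ B := ⟨zpowers_le.2 ha hb, Nat.coprime_two_right.1 hbo⟩
  rw [hB, mem_bot] at hb1
  rw [hb1, mul_one] at hcb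
  refine ⟨k, Subtype.ext ?_⟩
  show a ^ 2 ^ k = 1
  rw [← hcb]
  exact hk

theorem four_comm (h4 : HasFourResidual P) {a b : G}
    (ha : a ∈ (P : Subgroup G) ⊓ pResidual 2 G) (hb : b ∈ (P : Subgroup G) ⊓ pResidual 2 G) :
    a * b = b * a := by
  have hi : ∀ {c : G}, c ∈ (P : Subgroup G) ⊓ pResidual 2 G → c⁻¹ = c := fun hc =>
    inv_eq_of_mul_eq_one_left (by rw [← pow_two]; exact h4.2.1 _ hc)
  calc a * b = (a * b)⁻¹ := (hi (mul_mem ha hb)).symm
    _ = b * a := by rw [mul_inv_rev, hi ha, hi hb]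

theorem eq_one_of_central (h4 : HasFourResidual P) (N : Subgroup G) [N.Normal]
    (hN : N ≤ pResidual 2 G) {q : G} (hq : q ∈ (P : Subgroup G)) (hqN : q ∈ ⁅N, N⁆)
    (hc : ∀ n ∈ N, n * q = q * n) : q = 1 := by
  obtain ⟨T, hT⟩ := Transfer.Fusion.exists_sylow_map_eq_inf N P
  rw [← map_subtype_commutator] at hqN
  obtain ⟨q', hq', rfl⟩ := hqN
  have hmem : ∀ t : N, t ∈ (T : Subgroup N) → (t : G) ∈ (P : Subgroup G) ⊓ pResidual 2 G := by
    intro t ht
    have : (t : G) ∈ N ⊓ (P : Subgroup G) := hT ▸ mem_map_of_mem _ ht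
    exact ⟨this.2, hN this.1⟩
  have hqT : q' ∈ (T : Subgroup N) := by
    have : (q' : G) ∈ (T : Subgroup N).map N.subtype := hT.symm ▸ ⟨q'.2, hq⟩
    obtain ⟨t, ht, hte⟩ := this
    rwa [← N.subtype_injective hte]
  have := Transfer.Hall.eq_one_of_mem_center (T : Subgroup N)
    ⟨⟨fun a b => Subtype.ext (Subtype.ext (four_comm h4 (hmem _ a.2) (hmem _ b.2)))⟩⟩
    T.card_coprime_index hqT hq' (mem_center_iff.2 fun n => Subtype.ext (hc n n.2))
  rw [this]
  rfl

theorem centralizer_eq_center (hO : oddCore G = ⊥) (h4 : HasFourResidual P) (L : Subgroup G)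
    [L.Normal]
    (hQL : ∀ q ∈ (P : Subgroup G) ⊓ pResidual 2 G, q ∈ centralizer (L : Set G) → q = 1) :
    centralizer (L : Set G) = center G := by
  set C := centralizer (L : Set G) with hC
  haveI : C.Normal := inferInstanceAs (centralizer (L : Set G)).Normal
  set M := pResidual 2 G with hM
  haveI : M.Normal := Transfer.PResidual.pResidual_normal
  have hCM : C ⊓ M = ⊥ := eq_bot_of_inf_sylow (P := P) hO _
    (eq_bot_iff.2 fun q ⟨⟨hc, hm⟩, hp⟩ => mem_bot.2 (hQL q ⟨hp, hm⟩ hc))
  have hC2 : IsPGroup 2 C := by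
    refine (Transfer.PResidual.isPGroup_quotient (p := 2) (G := G)).of_injective
      ((QuotientGroup.mk' M).comp C.subtype) ?_
    rw [← MonoidHom.ker_eq_bot_iff, eq_bot_iff]
    intro c hc
    exact mem_bot.2 (Subtype.ext (mem_bot.1 (hCM ▸ ⟨c.2, (QuotientGroup.eq_one_iff (c : G)).1 hc⟩)))
  have hCP : C ≤ (P : Subgroup G) := le_sylow_of_isPGroup C hC2
  refine le_antisymm (fun c hc => mem_center_iff.2 fun g => ?_) (center_le_centralizer _)
  have hcM : ∀ m ∈ M, ⁅c, m⁆ = 1 := fun m hm =>
    mem_bot.1 (hCM ▸ commutator_le_inf C M (commutator_mem_commutator hc hm))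
  have hcP : ∀ p ∈ (P : Subgroup G), ⁅c, p⁆ = 1 := fun p hp => by
    have h1 : ⁅c, p⁆ ∈ C := by
      rw [commutatorElement_def, mul_assoc, mul_assoc, ← mul_assoc p]
      exact mul_mem hc (Normal.conj_mem inferInstance _ (inv_mem hc) p)
    exact mem_bot.1 (hCM ▸ ⟨h1, (h4.2.2 (commutator_mem_commutator (hCP hc) hp)).2⟩)
  obtain ⟨m, hm, p, hp, rfl⟩ := Transfer.PResidual.exists_mul_sylow P g
  have e1 : c * m = m * c := commutatorElement_eq_one_iff_mul_comm.1 (hcM m hm)
  have e2 : c * p = p * c := commutatorElement_eq_one_iff_mul_comm.1 (hcP p hp)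
  rw [mul_assoc, ← e2, ← mul_assoc, ← e1, mul_assoc]

theorem centralizer_residual (hO : oddCore G = ⊥) (h4 : HasFourResidual P) :
    centralizer (pResidual 2 G : Set G) = center G :=
  haveI : (pResidual 2 G).Normal := Transfer.PResidual.pResidual_normal
  centralizer_eq_center hO h4 _ fun _ hq hc => eq_one_of_central h4 _ le_rfl hq.1
    (Transfer.Fusion.pGroup_le_commutator_pResidual (P.2.to_le inf_le_left) inf_le_right hq)
    fun n hn => mem_centralizer_iff.1 hc n hn

theorem residual_inf_center (hO : oddCore G = ⊥) (h4 : HasFourResidual P) :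
    pResidual 2 G ⊓ center G = ⊥ := by
  haveI : (pResidual 2 G).Normal := Transfer.PResidual.pResidual_normal
  refine eq_bot_of_inf_sylow (P := P) hO _ (eq_bot_iff.2 fun q ⟨⟨hm, hc⟩, hp⟩ => mem_bot.2 ?_)
  exact eq_one_of_central h4 _ le_rfl hp
    (Transfer.Fusion.pGroup_le_commutator_pResidual (P.2.to_le inf_le_left) inf_le_right ⟨hp, hm⟩)
    fun n _ => mem_center_iff.1 hc n

/-- In the soluble case the four-group is normal. -/
theorem four_normal (hO : oddCore G = ⊥) (h4 : HasFourResidual P)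
    (hsol : Group.IsSolvable (pResidual 2 G)) :
    ((P : Subgroup G) ⊓ pResidual 2 G).Normal := by
  classical
  set M := pResidual 2 G with hM
  haveI hMn : M.Normal := Transfer.PResidual.pResidual_normal
  set Q := (P : Subgroup G) ⊓ M with hQ
  have hMne : Nontrivial M := by
    obtain ⟨x, hx, hx1⟩ := (bot_or_exists_ne_one Q).resolve_left fun e => by
      have := h4.1
      rw [← hQ, e, card_bot] at this
      omega
    exact ⟨⟨⟨x, hx.2⟩, 1, fun e => hx1 (congrArg Subtype.val e)⟩⟩
  have hex : ∃ n, derivedSeries M (n + 1) = ⊥ := by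
    obtain ⟨n, hn⟩ := (Group.isSolvable_def _).1 hsol
    exact ⟨n, le_bot_iff.1 ((derivedSeries_antitone M n.le_succ).trans hn.le)⟩
  set n := Nat.find hex with hn
  have hn1 : derivedSeries M (n + 1) = ⊥ := Nat.find_spec hex
  have hne : derivedSeries M n ≠ ⊥ := by
    intro h
    rcases Nat.eq_zero_or_pos n with h0 | h0
    · rw [h0, derivedSeries_zero] at h
      exact top_ne_bot h
    · exact Nat.find_min hex (show n - 1 < n by omega) (by rwa [Nat.sub_add_cancel h0])
  set A := (derivedSeries M n).map M.subtype with hA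
  haveI : A.Normal := by rw [hA]; infer_instance
  have hab : ∀ x ∈ A, ∀ y ∈ A, x * y = y * x := by
    rintro _ ⟨x, hx, rfl⟩ _ ⟨y, hy, rfl⟩
    rw [derivedSeries_succ] at hn1
    have := mem_bot.1 (hn1 ▸ commutator_mem_commutator hx hy)
    exact congrArg Subtype.val (commutatorElement_eq_one_iff_mul_comm.1 this)
  have hAM : A ≤ M := map_subtype_le _
  have hAQ : A ≤ Q := le_inf (le_sylow_of_comm hO A hab) hAM
  have hAne : A ≠ ⊥ := fun e => hne ((map_eq_bot_iff_of_injective _ M.subtype_injective).1 e)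
  have hd : Nat.card A ∣ 2 ^ 2 := by
    rw [show (2 ^ 2 : ℕ) = Nat.card Q from h4.1.symm]
    exact card_dvd_of_le hAQ
  obtain ⟨i, hi, hcard⟩ := (Nat.dvd_prime_pow Nat.prime_two).1 hd
  interval_cases i
  · exact absurd (card_eq_one.1 hcard) hAne
  · exfalso
    refine hAne (le_bot_iff.1 (residual_inf_center hO h4 ▸ le_inf hAM fun a ha => ?_))
    refine mem_center_iff.2 fun g => ?_
    by_cases ha1 : a = 1
    · simp [ha1]
    · have hmem : g * a * g⁻¹ ∈ A := Normal.conj_mem inferInstance a ha g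
      obtain ⟨x, hx, hall⟩ : ∃ x : A, x ≠ 1 ∧ ∀ y : A, y ≠ 1 → y = x := by
        obtain ⟨x, hx⟩ := (Nat.card_eq_two_iff' (1 : A)).1 hcard
        exact ⟨x, hx.1, hx.2⟩
      have e1 := hall ⟨a, ha⟩ fun e => ha1 (congrArg Subtype.val e)
      have e2 := hall ⟨_, hmem⟩ fun e => ha1 (conj_eq_one_iff.1 (congrArg Subtype.val e))
      exact mul_inv_eq_iff_eq_mul.1 (congrArg Subtype.val (e2.trans e1.symm))
  · have : A = Q := eq_of_le_of_card_ge hAQ (by rw [hcard]; exact h4.1.le)
    rw [← this]
    infer_instance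

/-- In the soluble case the residual has order twelve. -/
theorem card_residual (hO : oddCore G = ⊥) (h4 : HasFourResidual P)
    (hsol : Group.IsSolvable (pResidual 2 G)) : Nat.card (pResidual 2 G) = 12 := by
  classical
  set M := pResidual 2 G with hM
  haveI hMn : M.Normal := Transfer.PResidual.pResidual_normal
  set Q := (P : Subgroup G) ⊓ M with hQ
  haveI hQn : Q.Normal := four_normal hO h4 hsol
  have hQc : Nat.card Q = 4 := h4.1
  set D := centralizer (Q : Set G) ⊓ M with hD
  haveI : D.Normal := inferInstance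
  have hDc : ⁅D, D⁆ = ⊥ := eq_bot_of_inf_sylow (P := P) hO _ (eq_bot_iff.2 fun q ⟨hq, hp⟩ =>
    mem_bot.2 (eq_one_of_central h4 D inf_le_right hp hq fun n hn =>
      (mem_centralizer_iff.1 hn.1 q ⟨hp, (commutator_le_self D hq).2⟩).symm))
  have hDQ : D ≤ Q := le_inf (le_sylow_of_comm hO D fun x hx y hy =>
    commutatorElement_eq_one_iff_mul_comm.1 (mem_bot.1 (hDc ▸ commutator_mem_commutator hx hy)))
    inf_le_right
  set Qm := Q.subgroupOf M with hQm
  haveI : Qm.Normal := inferInstance
  let f : M →* Equiv.Perm Qm :=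
    (MulAut.toPerm (M := Qm)).comp (MulAut.conjNormal (H := Qm))
  have hker : f.ker ≤ Qm := by
    intro m hm
    refine hDQ ⟨mem_centralizer_iff.2 fun q hq => ?_, m.2⟩
    have h1 := DFunLike.congr_fun (MonoidHom.mem_ker.1 hm)
      (⟨⟨q, hq.2⟩, hq⟩ : Qm)
    have h2 : (m : G) * q * (m : G)⁻¹ = q := congrArg (fun v : Qm => ((v : M) : G)) h1
    exact (mul_inv_eq_iff_eq_mul.1 h2).symm
  have hcq : Nat.card Qm = 4 := by
    rw [Nat.card_congr (subgroupOfEquivOfLe (inf_le_right : Q ≤ M)).toEquiv, hQc]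
  have hidx : Qm.index ∣ 24 := by
    refine (index_dvd_of_le hker).trans ?_
    rw [index_ker]
    refine (card_subgroup_dvd_card f.range).trans ?_
    rw [Nat.card_perm, hcq]
    exact dvd_refl _
  have hodd : Odd Qm.index := by
    obtain ⟨T, hT⟩ := Transfer.Fusion.exists_sylow_map_eq_inf M P
    have : Qm = (T : Subgroup M) := by
      apply map_injective M.subtype_injective
      rw [hT, hQm, subgroupOf_map_subtype, hQ, inf_assoc, inf_idem, inf_comm]
    rw [this, Nat.odd_iff]
    have := T.not_dvd_index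
    omega
  have hne : Qm.index ≠ 1 := by
    intro h1
    have hMQ : M ≤ Q := subgroupOf_eq_top.1 (index_eq_one.1 h1)
    have hp : IsPGroup 2 M := P.2.to_le (hMQ.trans inf_le_left)
    have hbot : pResidual 2 M = ⊥ := Transfer.PResidual.pResidual_eq_bot_iff.2 hp
    rw [hM, Transfer.PResidual.pResidual_pResidual] at hbot
    have hs : Subsingleton M :=
      subsingleton_iff.1 ((subsingleton_iff_bot_eq_top (α := Subgroup M)).1 hbot.symm)
    have : Nat.card M = 1 := Nat.card_eq_one_iff_unique.2 ⟨hs, inferInstance⟩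
    have hle : Nat.card Q ≤ Nat.card M := card_le_of_le inf_le_right
    omega
  have h3 : Qm.index = 3 := by
    have hle := Nat.le_of_dvd (by norm_num) hidx
    rw [Nat.odd_iff] at hodd
    interval_cases h : Qm.index <;> omega
  rw [← Qm.card_mul_index, hcq, h3]

/-- The soluble case. -/
theorem alt_or_sym (hO : oddCore G = ⊥) (h4 : HasFourResidual P)
    (hsol : Group.IsSolvable (pResidual 2 G)) :
    Nonempty (G ⧸ center G ≃* alternatingGroup (Fin 4)) ∨
      Nonempty (G ⧸ center G ≃* Equiv.Perm (Fin 4)) := by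
  classical
  set M := pResidual 2 G with hM
  haveI hMn : M.Normal := Transfer.PResidual.pResidual_normal
  haveI : Fact (Nat.Prime 3) := ⟨by norm_num⟩
  have h12 : Nat.card M = 12 := card_residual hO h4 hsol
  have hT : ∀ T : Sylow 3 M, Nat.card (T : Subgroup M) = 3 := fun T => by
    rw [T.card_eq_multiplicity, h12, show (12 : ℕ) = 3 * 4 from rfl,
      Nat.factorization_mul (by norm_num) (by norm_num)]
    simp [Nat.prime_three.factorization_self, Nat.factorization_eq_zero_of_not_dvd]
  have hn1 : Nat.card (Sylow 3 M) ≠ 1 := by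
    intro h1
    obtain ⟨T⟩ : Nonempty (Sylow 3 M) := inferInstance
    haveI : (T : Subgroup M).Normal := normalizer_eq_top_iff.1 (index_eq_one.1
      (T.card_eq_index_normalizer ▸ h1))
    haveI : (T : Subgroup M).Characteristic := T.characteristic_of_normal inferInstance
    have hc : Nat.card ((T : Subgroup M).map M.subtype) = 3 := by rw [card_subtype, hT]
    have := odd_iff_trivial hO ((T : Subgroup M).map M.subtype) inferInstance (by rw [hc]; decide)
    rw [this, card_bot] at hc
    omega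
  have hn4 : Nat.card (Sylow 3 M) = 4 := by
    obtain ⟨T⟩ : Nonempty (Sylow 3 M) := inferInstance
    have hd := T.card_dvd_index
    have hi : (T : Subgroup M).index = 4 := by
      have := (T : Subgroup M).card_mul_index
      rw [hT, h12] at this
      omega
    rw [hi] at hd
    have hm : Nat.card (Sylow 3 M) % 3 = 1 % 3 := card_sylow_modEq_one 3 M
    have hle := Nat.le_of_dvd (by norm_num) hd
    interval_cases h : Nat.card (Sylow 3 M) <;> omega
  let f : G →* Equiv.Perm (Sylow 3 M) :=
    (MulAction.toPermHom (MulAut M) (Sylow 3 M)).comp MulAut.conjNormal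
  have hkerM : ∀ m ∈ M, f m = 1 → m = 1 := by
    intro m hm hfm
    have hnorm : ∀ T : Sylow 3 M, (⟨m, hm⟩ : M) ∈ normalizer ((T : Subgroup M) : Set M) := by
      intro T
      have h1 : (MulAut.conjNormal (H := M) m : MulAut M) • T = T := by
        have := Equiv.congr_fun hfm T
        exact this
      have h2 : MulAut.conjNormal (H := M) m = MulAut.conj (⟨m, hm⟩ : M) :=
        MulAut.conjNormal_val (H := M) (h := ⟨m, hm⟩)
      rw [h2] at h1
      exact Sylow.smul_eq_iff_mem_normalizer.1 h1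
    have hNT : ∀ T : Sylow 3 M, normalizer ((T : Subgroup M) : Set M) = T := by
      intro T
      refine (eq_of_le_of_card_ge le_normalizer ?_).symm
      have := (normalizer ((T : Subgroup M) : Set M)).card_mul_index
      have hi : (normalizer ((T : Subgroup M) : Set M)).index = 4 :=
        T.card_eq_index_normalizer.symm.trans hn4
      rw [hi, h12] at this
      rw [hT]
      omega
    haveI : Finite (Sylow 3 M) := Nat.finite_of_card_ne_zero (by omega)
    obtain ⟨T, T', hne⟩ := (Finite.one_lt_card_iff_nontrivial.1 (by omega : 1 < Nat.card (Sylow 3 M))).exists_pair_ne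
    have hint : (T : Subgroup M) ⊓ T' = ⊥ := by
      rcases (Nat.dvd_prime Nat.prime_three).1
        (hT T ▸ card_dvd_of_le (inf_le_left : (T : Subgroup M) ⊓ T' ≤ T)) with e | e
      · exact card_eq_one.1 e
      · refine absurd ?_ hne
        have e1 := eq_of_le_of_card_ge (inf_le_left : (T : Subgroup M) ⊓ T' ≤ T) (by rw [e, hT])
        have e2 := eq_of_le_of_card_ge (inf_le_right : (T : Subgroup M) ⊓ T' ≤ T') (by rw [e, hT])
        exact Sylow.ext (e1.symm.trans e2)
    have : (⟨m, hm⟩ : M) ∈ (T : Subgroup M) ⊓ T' := ⟨hNT T ▸ hnorm T, hNT T' ▸ hnorm T'⟩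
    rw [hint, mem_bot] at this
    exact congrArg Subtype.val this
  have hker : f.ker = center G := by
    rw [← centralizer_residual hO h4]
    refine le_antisymm (fun k hk => mem_centralizer_iff.2 fun m hm => ?_) fun k hk => ?_
    · have h1 : ⁅k, m⁆ ∈ M := by
        rw [commutatorElement_def]
        exact mul_mem (hMn.conj_mem m hm k) (inv_mem hm)
      have h2 : f ⁅k, m⁆ = 1 := by
        rw [map_commutatorElement, MonoidHom.mem_ker.1 hk, commutatorElement_one_left]
      exact (commutatorElement_eq_one_iff_mul_comm.1 (hkerM _ h1 h2)).symm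
    · have h1 : MulAut.conjNormal k = (1 : MulAut M) := MulEquiv.ext fun m => Subtype.ext (by
        rw [MulAut.conjNormal_apply, ← mem_centralizer_iff.1 hk m m.2, mul_inv_cancel_right]
        rfl)
      rw [MonoidHom.mem_ker]
      show MulAction.toPermHom (MulAut M) (Sylow 3 M) (MulAut.conjNormal k) = 1
      rw [h1, map_one]
  obtain ⟨e⟩ : Nonempty (Sylow 3 M ≃ Fin 4) :=
    haveI : Finite (Sylow 3 M) := Nat.finite_of_card_ne_zero (by omega)
    ⟨(Finite.equivFin _).trans (finCongr hn4)⟩
  let φ : G →* Equiv.Perm (Fin 4) := e.permCongrHom.toMonoidHom.comp f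
  have hφ : φ.ker = center G := by
    rw [← hker]
    ext g
    simp [φ]
  let ι : G ⧸ center G ≃* φ.range :=
    (QuotientGroup.quotientMulEquivOfEq hφ.symm).trans (QuotientGroup.quotientKerEquivRange φ)
  have h12' : 12 ∣ Nat.card φ.range := by
    rw [← h12]
    refine card_dvd_of_injective (φ.rangeRestrict.comp M.subtype) ?_
    rw [← MonoidHom.ker_eq_bot_iff, eq_bot_iff]
    intro m hm
    have : (m : G) ∈ M ⊓ center G := ⟨m.2, hφ ▸ congrArg Subtype.val hm⟩
    rw [residual_inf_center hO h4] at this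
    exact mem_bot.2 (Subtype.ext (mem_bot.1 this))
  have h24 : Nat.card (Equiv.Perm (Fin 4)) = 24 := by
    rw [Nat.card_perm, Nat.card_fin]
    rfl
  have hm := φ.range.card_mul_index
  rw [h24] at hm
  obtain ⟨k, hk⟩ := h12'
  rw [hk] at hm
  have hk2 : k * φ.range.index = 2 := by nlinarith
  rcases (Nat.dvd_prime Nat.prime_two).1 (Dvd.intro_left k hk2) with h1 | h2
  · exact Or.inr ⟨ι.trans ((MulEquiv.subgroupCongr (index_eq_one.1 h1)).trans topEquiv)⟩
  · exact Or.inl ⟨ι.trans (MulEquiv.subgroupCongr (Equiv.Perm.eq_alternatingGroup_of_index_eq_two h2))⟩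

/-- A perfect normal subgroup inside the residual. -/
theorem exists_perfect_residual (hns : ¬ Group.IsSolvable (pResidual 2 G)) :
    ∃ L : Subgroup G, L.Normal ∧ L ≤ pResidual 2 G ∧ ⁅L, L⁆ = L ∧ L ≠ ⊥ := by
  set M := pResidual 2 G with hM
  haveI hMn : M.Normal := Transfer.PResidual.pResidual_normal
  obtain ⟨n, hn⟩ : ∃ n, derivedSeries M (n + 1) = derivedSeries M n := by
    by_contra! hall
    have h : ∀ n, Nat.card (derivedSeries M n) + n ≤ Nat.card M := by
      intro n
      induction n with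
      | zero => simp [derivedSeries_zero]
      | succ n ih =>
        have hlt : Nat.card (derivedSeries M (n + 1)) < Nat.card (derivedSeries M n) := by
          by_contra hc
          exact hall n (eq_of_le_of_card_ge (derivedSeries_antitone M n.le_succ) (not_lt.1 hc))
        omega
    have := h (Nat.card M)
    have := Nat.card_pos (α := derivedSeries M (Nat.card M))
    omega
  refine ⟨(derivedSeries M n).map M.subtype, inferInstance, map_subtype_le _, ?_, fun h => ?_⟩
  · rw [← map_commutator, ← derivedSeries_succ, hn]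
  · exact hns ((Group.isSolvable_def _).2
      ⟨n, (map_eq_bot_iff_of_injective _ M.subtype_injective).1 h⟩)

theorem mod_eight_of_card {F : Type} [Field F] [Fintype F] (hq : Odd (Fintype.card F))
    {m : ℕ} (hm : Odd m)
    (hcard : Nat.card (Matrix.ProjectiveSpecialLinearGroup (Fin 2) F) = 4 * m) :
    Fintype.card F % 8 = 3 ∨ Fintype.card F % 8 = 5 := by
  have h := Linear.two_mul_card_PSL_two_of_odd (F := F) hq
  rw [hcard] at h
  obtain ⟨j, hj⟩ := hq
  obtain ⟨i, hi⟩ := hm
  rw [hj, show 2 * j + 1 - 1 = 2 * j by omega, hi] at h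
  rw [hj]
  by_contra hc
  push Not at hc
  rcases (show (2 * j + 1) % 8 = 1 ∨ (2 * j + 1) % 8 = 7 by omega) with e | e
  · obtain ⟨t, rfl⟩ : 4 ∣ j := by omega
    have h' : 8 * (2 * i + 1) = 8 * (2 * ((8 * t + 1) * t * (4 * t + 1))) := by
      rw [show 8 * (2 * i + 1) = 2 * (4 * (2 * i + 1)) by ring, h]; ring
    have := Nat.eq_of_mul_eq_mul_left (by norm_num) h'
    omega
  · obtain ⟨t, rfl⟩ : ∃ t, j = 4 * t + 3 := ⟨j / 4, by omega⟩
    have h' : 8 * (2 * i + 1) = 8 * (2 * ((8 * t + 7) * (4 * t + 3) * (t + 1))) := by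
      rw [show 8 * (2 * i + 1) = 2 * (4 * (2 * i + 1)) by ring, h]; ring
    have := Nat.eq_of_mul_eq_mul_left (by norm_num) h'
    omega

/-- The non-soluble case, modulo Gorenstein–Walter. -/
theorem psl_case (hGW : GWConsumers12.GWPerfect.{u}) (hO : oddCore G = ⊥) (h4 : HasFourResidual P)
    (hns : ¬ Group.IsSolvable (pResidual 2 G)) :
    ∃ S : Subgroup (G ⧸ center G), S.Normal ∧ IsSimpleGroup ↥S ∧ ¬ IsMulCommutative ↥S ∧
      centralizer (S : Set (G ⧸ center G)) = ⊥ ∧
      ∃ (F : Type) (_ : Field F) (_ : Fintype F), 3 < Fintype.card F ∧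
        (Fintype.card F % 8 = 3 ∨ Fintype.card F % 8 = 5) ∧
        Nonempty (↥S ≃* Matrix.ProjectiveSpecialLinearGroup (Fin 2) F) := by
  classical
  obtain ⟨L, hLn, hLM, hLL, hLne⟩ := exists_perfect_residual hns
  set Q := (P : Subgroup G) ⊓ pResidual 2 G with hQ
  haveI : Group.IsPerfect L := ⟨by
    apply map_injective L.subtype_injective
    rw [map_subtype_commutator, hLL, ← MonoidHom.range_eq_map, range_subtype]⟩
  have hLQ : L ⊓ (P : Subgroup G) ≤ Q := le_inf inf_le_right (inf_le_left.trans hLM)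
  obtain ⟨T, hT⟩ := Transfer.Fusion.exists_sylow_map_eq_inf L P
  have hnt : Nontrivial L := (nontrivial_iff_ne_bot L).2 hLne
  have hLP : ¬ IsPGroup 2 L := fun h => by
    haveI := h.isNilpotent
    exact (Group.IsSolvable.commutator_lt_top_of_nontrivial (G := L)).ne
      Group.IsPerfect.commutator_eq_top
  have hLeq : L ⊓ (P : Subgroup G) = Q := by
    refine eq_of_le_of_card_ge hLQ ?_
    rw [h4.1]
    by_contra hlt
    obtain ⟨i, hi, hcard⟩ := (Nat.dvd_prime_pow Nat.prime_two).1
      (show Nat.card (L ⊓ (P : Subgroup G) : Subgroup G) ∣ 2 ^ 2 by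
        rw [show (2 ^ 2 : ℕ) = Nat.card Q from h4.1.symm]; exact card_dvd_of_le hLQ)
    interval_cases i
    · exact hLne (eq_bot_of_inf_sylow hO L (card_eq_one.1 hcard))
    · haveI : IsCyclic (T : Subgroup L) := by
        refine isCyclic_of_prime_card (p := 2) ?_
        rw [← card_subtype, hT]
        exact hcard
      have h2 : 2 ∣ Nat.card L := by
        refine dvd_trans ?_ (card_dvd_of_le (inf_le_left : L ⊓ (P : Subgroup G) ≤ L))
        rw [hcard, pow_one]
      exact hLP (T.2.of_injective _ (ZStar.Elements.injective_transfer (odd_iff_trivial hO) L T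
        ((Nat.minFac_eq_two_iff _).2 h2)))
    · omega
  have hQL : Q ≤ L := hLeq ▸ inf_le_left
  have hC : centralizer (L : Set G) = center G :=
    centralizer_eq_center hO h4 L fun q hq hc => eq_one_of_central h4 L hLM hq.1
      (by rw [hLL]; exact hQL hq) fun n hn => mem_centralizer_iff.1 hc n hn
  have hLZ : L ⊓ center G = ⊥ :=
    le_bot_iff.1 ((inf_le_inf_right _ hLM).trans (residual_inf_center hO h4).le)
  have hT4 : Nat.card (T : Subgroup L) = 4 := by
    rw [← card_subtype, hT, hLeq]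
    exact h4.1
  have hT2 : ∀ t : (T : Subgroup L), t ^ 2 = 1 := fun t => Subtype.ext (Subtype.ext (by
    have : ((t : L) : G) ∈ L ⊓ (P : Subgroup G) := hT ▸ mem_map_of_mem _ t.2
    exact h4.2.1 _ (hLeq.le this)))
  haveI : IsKleinFour (T : Subgroup L) := by
    haveI : Nontrivial (T : Subgroup L) := Finite.one_lt_card_iff_nontrivial.1 (by omega)
    exact ⟨hT4, (Monoid.exponent_eq_prime_iff Nat.prime_two).2 fun g hg =>
      orderOf_eq_prime (hT2 g) hg⟩
  have hOL : oddCore L = ⊥ := by
    haveI : (oddCore L).Characteristic := Cores.pPrimeCore_characteristic 2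
    refine (map_eq_bot_iff_of_injective _ L.subtype_injective).1
      (odd_iff_trivial hO ((oddCore L).map L.subtype) inferInstance ?_)
    rw [card_subtype]
    exact ZStar.Elements.oddCore_odd
  have hodd : Odd (T : Subgroup L).index := by
    rw [Nat.odd_iff]
    have := T.not_dvd_index
    omega
  have hcardL : Nat.card L = 4 * (T : Subgroup L).index := by
    rw [← hT4, (T : Subgroup L).card_mul_index]
  let eL : L ⧸ oddCore L ≃* L :=
    (QuotientGroup.quotientMulEquivOfEq hOL).trans QuotientGroup.quotientBot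
  rcases hGW L T 2 le_rfl IsKleinFour.nonempty_mulEquiv with
    ⟨F, _, _, hFodd, hF3, ⟨e⟩⟩ | ⟨⟨e⟩⟩
  · have eP : L ≃* Matrix.ProjectiveSpecialLinearGroup (Fin 2) F := eL.symm.trans e
    set π := QuotientGroup.mk' (center G) with hπ
    have hinj : Function.Injective (π.subgroupMap L) := by
      rw [← MonoidHom.ker_eq_bot_iff, eq_bot_iff]
      intro l hl
      have : (l : G) ∈ L ⊓ center G :=
        ⟨l.2, (QuotientGroup.eq_one_iff (l : G)).1 (congrArg Subtype.val hl)⟩
      rw [hLZ] at this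
      exact mem_bot.2 (Subtype.ext (mem_bot.1 this))
    let eS : L ≃* L.map π := MulEquiv.ofBijective _ ⟨hinj, π.subgroupMap_surjective L⟩
    have eSP := eS.symm.trans eP
    haveI : IsSimpleGroup (Matrix.ProjectiveSpecialLinearGroup (Fin 2) F) :=
      Linear.isSimpleGroup_PSL le_rfl fun _ => by rw [Nat.card_eq_fintype_card]; omega
    haveI : Nontrivial (L.map π) := eS.toEquiv.symm.nontrivial
    refine ⟨L.map π, hLn.map π (QuotientGroup.mk'_surjective _),
      IsSimpleGroup.isSimpleGroup_of_surjective eSP.symm.toMonoidHom eSP.symm.surjective, ?_, ?_,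
      F, inferInstance, inferInstance, hF3,
      mod_eight_of_card hFodd hodd (by rw [← Nat.card_congr eP.toEquiv, hcardL]), ⟨eSP⟩⟩
    · intro hcomm
      refine hLne (hLL ▸ commutator_eq_bot_iff_le_centralizer.2 fun a ha =>
        mem_centralizer_iff.2 fun b hb => ?_)
      have := hinj (a₁ := ⟨b, hb⟩ * ⟨a, ha⟩) (a₂ := ⟨a, ha⟩ * ⟨b, hb⟩)
        (by rw [map_mul, map_mul]; exact hcomm.is_comm.comm _ _)
      exact congrArg Subtype.val this
    · rw [eq_bot_iff]
      intro x hx
      obtain ⟨g, rfl⟩ := QuotientGroup.mk'_surjective _ x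
      refine mem_bot.2 ((QuotientGroup.eq_one_iff g).2 (hC ▸ mem_centralizer_iff.2 fun l hl => ?_))
      have h1 : π (l * g) = π (g * l) := by
        rw [map_mul, map_mul]
        exact mem_centralizer_iff.1 hx (π l) ⟨l, hl, rfl⟩
      have h2 : ⁅g, l⁆ ∈ L ⊓ center G := by
        refine mem_inf.2 ⟨?_, ?_⟩
        · rw [commutatorElement_def]
          exact mul_mem (hLn.conj_mem l hl g) (inv_mem hl)
        · rw [← QuotientGroup.ker_mk' (center G), MonoidHom.mem_ker, map_commutatorElement]
          rw [map_mul, map_mul] at h1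
          exact commutatorElement_eq_one_iff_mul_comm.2 h1.symm
      rw [hLZ, mem_bot] at h2
      exact (commutatorElement_eq_one_iff_mul_comm.1 h2).symm
  · exfalso
    have h := Nat.card_congr (eL.symm.trans e).toEquiv
    rw [hcardL, nat_card_alternatingGroup, Nat.card_fin] at h
    obtain ⟨i, hi⟩ := hodd
    rw [hi] at h
    norm_num [Nat.factorial] at h
    omega

/-- Row 3896 modulo Gorenstein–Walter. -/
theorem row3896 (hGW : GWConsumers12.GWPerfect.{u}) (P : Sylow 2 G) (hO : pPrimeCore 2 G = ⊥)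
    (hk : 2 * Nat.card {c : ConjClasses G // ∀ x ∈ c.carrier, ∃ k : ℕ, orderOf x = 2 ^ k} =
      Nat.card ↥(P : Subgroup G)) :
    Nonempty (G ⧸ center G ≃* ↥(alternatingGroup (Fin 4))) ∨
      Nonempty (G ⧸ center G ≃* Equiv.Perm (Fin 4)) ∨
      ∃ S : Subgroup (G ⧸ center G), S.Normal ∧ IsSimpleGroup ↥S ∧ ¬ IsMulCommutative ↥S ∧
        centralizer (S : Set (G ⧸ center G)) = ⊥ ∧
        ∃ (F : Type) (_ : Field F) (_ : Fintype F), 3 < Fintype.card F ∧
          (Fintype.card F % 8 = 3 ∨ Fintype.card F % 8 = 5) ∧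
          Nonempty (↥S ≃* Matrix.ProjectiveSpecialLinearGroup (Fin 2) F) := by
  have h4 : HasFourResidual P := hasFourResidual hO hk
  by_cases hsol : Group.IsSolvable (pResidual 2 G)
  · exact (alt_or_sym hO h4 hsol).imp id Or.inl
  · exact Or.inr (Or.inr (psl_case hGW hO h4 hsol))

end Cfsg.Agent.Lib.HalfClasses
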