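import Cfsg.Agent.Lib.HalfClasses.Four

/-!
# The case of a non-abelian Sylow subgroup
-/

set_option autoImplicit false

namespace Cfsg.Agent.Lib.HalfClasses

open Subgroup Cfsg
open scoped commutatorElement

universe u

variable {G : Type u} [Group G] [Finite G] {P : Sylow 2 G}

theorem card_classes_le (h : HalfClassesHyp P) :
    Nat.card ↥(P : Subgroup G) ≤ 2 * Nat.card (ConjClasses ↥(P : Subgroup G)) := by
  rw [← h]
  refine Nat.mul_le_mul_left 2 ?_
  haveI : Finite (ConjClasses ↥(P : Subgroup G)) := Finite.of_surjective _ ConjClasses.mk_surjective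
  refine Nat.card_le_card_of_surjective
    (Quotient.lift (toClass P) fun a b hab => Subtype.ext ?_) fun c => ?_
  · exact ConjClasses.mk_eq_mk_iff_isConj.2 ((P : Subgroup G).subtype.map_isConj hab)
  · obtain ⟨x, hx⟩ := toClass_surjective P c
    exact ⟨ConjClasses.mk x, hx⟩

/-- The data of a non-abelian Sylow subgroup with derived subgroup of order two. -/
structure Comm2 (P : Sylow 2 G) (z : G) : Prop where
  mem : z ∈ (P : Subgroup G)
  sq : z * z = 1
  ne : z ≠ 1
  cen : ∀ s ∈ (P : Subgroup G), s * z = z * s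
  conj : ∀ s ∈ (P : Subgroup G), ∀ x ∈ (P : Subgroup G), s * x * s⁻¹ = x ∨ s * x * s⁻¹ = x * z
  mem_comm : z ∈ ⁅(P : Subgroup G), (P : Subgroup G)⁆
  comm_eq : ∀ q ∈ ⁅(P : Subgroup G), (P : Subgroup G)⁆, q = 1 ∨ q = z

theorem exists_comm2 (h : HalfClassesHyp P)
    (hna : ¬ ∀ x ∈ (P : Subgroup G), ∀ y ∈ (P : Subgroup G), x * y = y * x) : ∃ z, Comm2 P z := by
  set D : Subgroup G := ⁅(P : Subgroup G), (P : Subgroup G)⁆ with hD
  have hcard : Nat.card D ≤ 2 := by
    have h2 := card_commutator_le_two P.2 (card_classes_le h)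
    rwa [← card_map_of_injective (K := commutator ↥(P : Subgroup G))
      (P : Subgroup G).subtype_injective, map_subtype_commutator] at h2
  have hne : D ≠ ⊥ := fun hb => hna fun x hx y hy =>
    commutatorElement_eq_one_iff_mul_comm.1 (mem_bot.1 (hb ▸ commutator_mem_commutator hx hy))
  obtain ⟨z, hzD, hz1⟩ := (bot_or_exists_ne_one D).resolve_left hne
  have hall : ∀ q ∈ D, q = 1 ∨ q = z := by
    intro q hq
    by_contra hc
    push Not at hc
    classical
    have h3 : ({⟨1, one_mem _⟩, ⟨z, hzD⟩, ⟨q, hq⟩} : Finset D).card = 3 := by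
      rw [Finset.card_insert_of_notMem (by simp [Ne.symm hz1, Ne.symm hc.1]),
        Finset.card_pair (by simpa using Ne.symm hc.2)]
    haveI := Fintype.ofFinite D
    have := Finset.card_le_univ ({⟨1, one_mem _⟩, ⟨z, hzD⟩, ⟨q, hq⟩} : Finset D)
    rw [h3, ← Nat.card_eq_fintype_card] at this
    omega
  have hDP : D ≤ (P : Subgroup G) := commutator_le_self _
  have hsq : z * z = 1 := by
    rcases hall _ (mul_mem hzD hzD) with h' | h'
    · exact h'
    · exact absurd (mul_eq_right.1 h') hz1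
  refine ⟨z, hDP hzD, hsq, hz1, fun s hs => ?_, fun s hs x hx => ?_, hzD, hall⟩
  · rcases hall (s * z * s⁻¹) (by
      rw [show s * z * s⁻¹ = ⁅s, z⁆ * z by rw [commutatorElement_def]; group]
      exact mul_mem (commutator_mem_commutator hs (hDP hzD)) hzD) with h' | h'
    · exact absurd (conj_eq_one_iff.1 h') hz1
    · exact mul_inv_eq_iff_eq_mul.1 h'
  · rcases hall _ (commutator_mem_commutator (inv_mem hx) hs) with h' | h'
    · exact Or.inl (calc s * x * s⁻¹ = x * ⁅x⁻¹, s⁆ := by rw [commutatorElement_def]; group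
        _ = x := by rw [h', mul_one])
    · exact Or.inr (calc s * x * s⁻¹ = x * ⁅x⁻¹, s⁆ := by rw [commutatorElement_def]; group
        _ = x * z := by rw [h'])

namespace Comm2

variable {z : G} (hd : Comm2 P z)
include hd

theorem central_or_moved {y : G} (hy : y ∈ (P : Subgroup G)) :
    (∀ s ∈ (P : Subgroup G), s * y = y * s) ∨ ∃ s ∈ (P : Subgroup G), s * y * s⁻¹ = y * z := by
  by_cases hc : ∀ s ∈ (P : Subgroup G), s * y = y * s
  · exact Or.inl hc
  · push Not at hc
    obtain ⟨s, hs, hsy⟩ := hc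
    exact Or.inr ⟨s, hs, (hd.conj s hs y hy).resolve_left fun h => hsy (mul_inv_eq_iff_eq_mul.1 h)⟩

theorem self_ne {y : G} : y * z ≠ y := fun h => hd.ne (mul_eq_left.1 h)

theorem isConj_mul {y : G} {s : G} (hs : s * y * s⁻¹ = y * z) : IsConj y (y * z) :=
  isConj_iff.2 ⟨s, hs⟩

theorem trace_ne_two_central {x : G} (hx : x ∈ (P : Subgroup G))
    (hxc : ∀ s ∈ (P : Subgroup G), s * x = x * s) : traceSize (P : Subgroup G) x ≠ 2 :=
  trace_ne_two hx hxc fun y hy _ => (hd.central_or_moved hy).imp id fun ⟨s, hs, e⟩ =>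
    ⟨s, hs, e.trans_ne hd.self_ne⟩

/-- The classes of a non-central element of `P` with at most two conjugates in `P`. -/
theorem eq_of_trace_le_two {x y : G} (hx : x ∈ (P : Subgroup G)) (hy : y ∈ (P : Subgroup G))
    (hxy : IsConj x y) (hxn : ¬ ∀ s ∈ (P : Subgroup G), s * x = x * s)
    (h : traceSize (P : Subgroup G) x ≤ 2) : y = x ∨ y = x * z := by
  obtain ⟨s, hs, e⟩ := (hd.central_or_moved hx).resolve_left hxn
  by_contra hc
  push Not at hc
  have := three_le_trace hx (mul_mem hx hd.mem) hy (IsConj.refl x) (hd.isConj_mul e) hxy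
    (Ne.symm hd.self_ne) (Ne.symm hc.1) (Ne.symm hc.2)
  omega

/-- The subgroup of elements fixed by `N(P)` modulo `⟨z⟩`. -/
def fixedSubgroup (hzc : z ∈ center G) : Subgroup G where
  carrier := {x | x ∈ (P : Subgroup G) ∧ FixedMod P z x}
  one_mem' := ⟨one_mem _, fun n _ => Or.inl (by group)⟩
  mul_mem' := by
    rintro a b ⟨ha, ha'⟩ ⟨hb, hb'⟩
    refine ⟨mul_mem ha hb, fun n hn => ?_⟩
    have hc : ∀ w : G, w * z = z * w := fun w => mem_center_iff.1 hzc w
    rw [show n * (a * b) * n⁻¹ = n * a * n⁻¹ * (n * b * n⁻¹) by group]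
    rcases ha' n hn with e | e <;> rcases hb' n hn with e' | e' <;> rw [e, e']
    · exact Or.inl rfl
    · exact Or.inr (mul_assoc _ _ _).symm
    · exact Or.inr (by rw [mul_assoc a z b, ← hc b, ← mul_assoc])
    · refine Or.inl ?_
      rw [mul_assoc a z, ← mul_assoc z b z, ← hc b, mul_assoc b z z, hd.sq, mul_one]
  inv_mem' := by
    rintro a ⟨ha, ha'⟩
    refine ⟨inv_mem ha, fun n hn => ?_⟩
    rw [show n * a⁻¹ * n⁻¹ = (n * a * n⁻¹)⁻¹ by group]
    rcases ha' n hn with e | e <;> rw [e]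
    · exact Or.inl rfl
    · refine Or.inr ?_
      rw [mul_inv_rev, inv_eq_of_mul_eq_one_left hd.sq, mem_center_iff.1 hzc]

theorem big_of_not_fixed {x : G} (hx : x ∈ (P : Subgroup G)) (hn : ¬ FixedMod P z x) :
    3 ≤ traceSize (P : Subgroup G) x := by
  rw [FixedMod] at hn
  push Not at hn
  obtain ⟨n, hnN, h1, h2⟩ := hn
  rcases hd.central_or_moved hx with hxc | ⟨s, hs, e⟩
  · have h2' := hd.trace_ne_two_central hx hxc
    have h1' : traceSize (P : Subgroup G) x ≠ 1 := fun he => by
      obtain ⟨hs, -⟩ := Nat.card_eq_one_iff_unique.1 he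
      exact h1 (congrArg Subtype.val (hs.allEq ⟨_, (mem_normalizer_iff.1 hnN x).1 hx,
        isConj_iff.2 ⟨n, rfl⟩⟩ ⟨x, hx, IsConj.refl _⟩))
    have := one_le_trace hx
    omega
  · exact three_le_trace hx (mul_mem hx hd.mem) ((mem_normalizer_iff.1 hnN x).1 hx) (IsConj.refl x)
      (hd.isConj_mul e) (isConj_iff.2 ⟨n, rfl⟩) (Ne.symm hd.self_ne) (Ne.symm h1) (Ne.symm h2)

/-- An index two fixed subgroup is everything. -/
theorem fixed_of_index_two (hzc : z ∈ center G) {x : G} (hx : x ∈ (P : Subgroup G))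
    (hidx : ∀ a ∈ (P : Subgroup G), ∀ b ∈ (P : Subgroup G), ¬ FixedMod P z a → ¬ FixedMod P z b →
      FixedMod P z (a⁻¹ * b)) : FixedMod P z x := by
  by_contra hxn
  have hfix : ∀ {a : G}, a ∈ (P : Subgroup G) → FixedMod P z a → a ∈ hd.fixedSubgroup hzc :=
    fun ha h => ⟨ha, h⟩
  -- the 2'-elements of `N(P)` fix `x` modulo `z`
  have hodd : ∀ n ∈ normalizer ((P : Subgroup G) : Set G), Odd (orderOf n) →
      n * x * n⁻¹ = x ∨ n * x * n⁻¹ = x * z := by
    intro n hn hno
    have hyP : n * x * n⁻¹ ∈ (P : Subgroup G) := (mem_normalizer_iff.1 hn x).1 hx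
    have hyn : ¬ FixedMod P z (n * x * n⁻¹) := by
      intro hy
      have := hy n⁻¹ (inv_mem hn)
      have e : n⁻¹ * (n * x * n⁻¹) * n⁻¹⁻¹ = x := by group
      rw [e] at this
      rcases this with h' | h'
      · exact hxn (h'.symm ▸ hy)
      · exact hxn (h'.symm ▸ ((hd.fixedSubgroup hzc).mul_mem (hfix hyP hy)
          (hfix hd.mem fun m _ => Or.inl (by rw [mem_center_iff.1 hzc m, mul_inv_cancel_right]))).2)
    set δ := x⁻¹ * (n * x * n⁻¹) with hδ
    have hδW : FixedMod P z δ := hidx x hx _ hyP hxn hyn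
    have hδP : δ ∈ (P : Subgroup G) := mul_mem (inv_mem hx) hyP
    set Z := zpowers z with hZ
    haveI : Z.Normal := ⟨fun w hw g => by
      obtain ⟨i, rfl⟩ := mem_zpowers_iff.1 hw
      rw [mem_center_iff.1 (zpow_mem hzc i) g, mul_inv_cancel_right]; exact hw⟩
    set π := QuotientGroup.mk' Z with hπ
    have hπz : π z = 1 := (QuotientGroup.eq_one_iff z).2 (mem_zpowers z)
    have hnδ : π n * π δ * (π n)⁻¹ = π δ := by
      rcases hδW n hn with e | e <;>
        rw [← map_inv, ← map_mul, ← map_mul, e] <;> simp [hπz]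
    have hy : π n * π x * (π n)⁻¹ = π x * π δ := by simp [hδ, mul_assoc]
    have hiter : ∀ i : ℕ, π n ^ i * π x * (π n ^ i)⁻¹ = π x * π δ ^ i := by
      intro i
      induction i with
      | zero => simp
      | succ i ih =>
        calc π n ^ (i + 1) * π x * (π n ^ (i + 1))⁻¹
            = π n * (π n ^ i * π x * (π n ^ i)⁻¹) * (π n)⁻¹ := by rw [pow_succ']; group
          _ = π n * π x * (π n)⁻¹ * (π n * π δ * (π n)⁻¹) ^ i := by rw [ih, conj_pow]; group
          _ = π x * π δ ^ (i + 1) := by rw [hy, hnδ, pow_succ', mul_assoc]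
    have hpow : π δ ^ orderOf n = 1 := by
      have := hiter (orderOf n)
      rw [← map_pow π n, pow_orderOf_eq_one, map_one, one_mul, inv_one, mul_one] at this
      exact mul_eq_left.1 this.symm
    obtain ⟨k, hk⟩ := IsPGroup.iff_orderOf.1 P.2 ⟨δ, hδP⟩
    rw [orderOf_mk] at hk
    have h1 : orderOf (π δ) = 1 := Nat.eq_one_of_dvd_coprimes
      (Nat.Coprime.pow_right k (Nat.coprime_two_right.2 hno)) (orderOf_dvd_of_pow_eq_one hpow)
      (hk ▸ orderOf_map_dvd π δ)
    obtain ⟨i, hi⟩ := mem_zpowers_iff.1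
      ((QuotientGroup.eq_one_iff δ).1 (orderOf_eq_one_iff.1 h1))
    have hδ' : n * x * n⁻¹ = x * δ := by rw [hδ]; group
    rcases Int.even_or_odd' i with ⟨j, rfl | rfl⟩
    · left
      rw [hδ', ← hi, zpow_mul, zpow_two, hd.sq, one_zpow, mul_one]
    · right
      rw [hδ', ← hi, zpow_add, zpow_mul, zpow_two, hd.sq, one_zpow, one_mul, zpow_one]
  refine hxn fun n hn => ?_
  obtain ⟨a, b, ha, hb, hab, -, ⟨k, hk⟩, hbo⟩ :=
    Transfer.PResidual.exists_pPart_mul_pPrimePart (p := 2) n (isOfFinOrder_of_finite n)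
  have haN : a ∈ normalizer ((P : Subgroup G) : Set G) := zpowers_le.2 hn ha
  have haP := mem_of_pow haN hk
  have hbN : b ∈ normalizer ((P : Subgroup G) : Set G) := zpowers_le.2 hn hb
  rcases hodd b hbN (Nat.coprime_two_right.1 hbo) with e | e
  · rw [← hab, show a * b * x * (a * b)⁻¹ = a * (b * x * b⁻¹) * a⁻¹ by group, e]
    exact hd.conj a haP x hx
  · rw [← hab, show a * b * x * (a * b)⁻¹ = a * (b * x * b⁻¹) * a⁻¹ by group, e,
      show a * (x * z) * a⁻¹ = a * x * a⁻¹ * (a * z * a⁻¹) by group, hd.cen a haP,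
      mul_inv_cancel_right]
    rcases hd.conj a haP x hx with e' | e' <;> rw [e']
    · exact Or.inr rfl
    · exact Or.inl (by rw [mul_assoc, hd.sq, mul_one])

/-- If every element is fixed modulo `z`, no element has three conjugates in `P`. -/
theorem trace_le_two_of_fixed (hzc : z ∈ center G)
    (hfix : ∀ x ∈ (P : Subgroup G), FixedMod P z x) {x : G} (hx : x ∈ (P : Subgroup G)) :
    ¬ 3 ≤ traceSize (P : Subgroup G) x := by
  intro h3
  obtain ⟨y, hyP, hxy, hy1, hy2⟩ : ∃ y ∈ (P : Subgroup G), IsConj x y ∧ y ≠ x ∧ y ≠ x * z := by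
    by_contra hc
    push Not at hc
    classical
    have hle : Nat.card {y : G // y ∈ (P : Subgroup G) ∧ IsConj x y} ≤ 2 := by
      refine (Nat.card_le_card_of_injective (α := {y : G // y ∈ (P : Subgroup G) ∧ IsConj x y})
        (β := ↥({x, x * z} : Finset G))
        (fun y => ⟨(y : G), ?_⟩) fun a b hab => Subtype.ext (by simpa using hab)).trans ?_
      · rcases eq_or_ne (y : G) x with e | e
        · simp [e]
        · simp [hc y y.2.1 y.2.2 e]
      · rw [Nat.card_eq_finsetCard]
        exact Finset.card_le_two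
    rw [traceSize] at h3
    omega
  set Z := zpowers z with hZ
  haveI : Z.Normal := ⟨fun w hw g => by
    obtain ⟨i, rfl⟩ := mem_zpowers_iff.1 hw
    rw [mem_center_iff.1 (zpow_mem hzc i) g, mul_inv_cancel_right]; exact hw⟩
  set π := QuotientGroup.mk' Z with hπ
  have hπz : π z = 1 := (QuotientGroup.eq_one_iff z).2 (mem_zpowers z)
  set P₁ := P.mapSurjective (QuotientGroup.mk'_surjective Z)
  have hc₁ : ∀ w ∈ (P : Subgroup G), ∀ s ∈ (P₁ : Subgroup (G ⧸ Z)), s * π w = π w * s := by
    rintro w hw _ ⟨s, hs, rfl⟩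
    rcases hd.conj s hs w hw with e | e
    · rw [← map_mul, ← map_mul, mul_inv_eq_iff_eq_mul.1 e]
    · rw [← map_mul, ← map_mul, mul_inv_eq_iff_eq_mul.1 e, map_mul, map_mul, hπz, mul_one, ← map_mul]
  obtain ⟨q, hq, hqe⟩ := burnside (P := P₁) (hc₁ x hx) (hc₁ y hyP) (π.map_isConj hxy)
  obtain ⟨n, rfl⟩ := QuotientGroup.mk'_surjective Z q
  have hZP : Z ≤ (P : Subgroup G) := zpowers_le.2 hd.mem
  have hnN : n ∈ normalizer ((P : Subgroup G) : Set G) := by
    rw [mem_normalizer_iff]
    intro w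
    have key : ∀ v : G, v ∈ (P : Subgroup G) ↔ π v ∈ (P₁ : Subgroup (G ⧸ Z)) := fun v => by
      refine ⟨fun hv => ⟨v, hv, rfl⟩, fun ⟨u, hu, e⟩ => ?_⟩
      have : u⁻¹ * v ∈ Z := (QuotientGroup.eq).1 e
      simpa using mul_mem hu (hZP this)
    rw [key, key, map_mul, map_mul, map_inv]
    exact mem_normalizer_iff.1 hq (π w)
  rw [← map_inv, ← map_mul, ← map_mul] at hqe
  have hmem : (n * x * n⁻¹)⁻¹ * y ∈ Z := (QuotientGroup.eq).1 hqe
  obtain ⟨i, hi⟩ := mem_zpowers_iff.1 hmem
  have hye : y = n * x * n⁻¹ * z ^ i := by rw [hi]; group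
  rcases Int.even_or_odd' i with ⟨j, rfl | rfl⟩
  · rw [zpow_mul, zpow_two, hd.sq, one_zpow, mul_one] at hye
    rcases hfix x hx n hnN with e | e <;> rw [e] at hye
    · exact hy1 hye
    · exact hy2 hye
  · rw [zpow_add, zpow_mul, zpow_two, hd.sq, one_zpow, one_mul, zpow_one] at hye
    rcases hfix x hx n hnN with e | e <;> rw [e] at hye
    · exact hy2 hye
    · exact hy1 (by rw [hye, mul_assoc, hd.sq, mul_one])

/-- `z` is not central in `G`. -/
theorem not_mem_center (hO : oddCore G = ⊥) (h : HalfClassesHyp P)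
    (hna : ¬ ∀ x ∈ (P : Subgroup G), ∀ y ∈ (P : Subgroup G), x * y = y * x) : z ∉ center G := by
  intro hzc
  classical
  haveI := Fintype.ofFinite G
  set Zp : Subgroup G := (P : Subgroup G) ⊓ centralizer ((P : Subgroup G) : Set G) with hZp
  have hmemZ : ∀ {w : G}, w ∈ Zp ↔ w ∈ (P : Subgroup G) ∧ ∀ s ∈ (P : Subgroup G), s * w = w * s :=
    fun {w} => and_congr Iff.rfl mem_centralizer_iff
  set W := hd.fixedSubgroup hzc with hW
  have hWP : W ≤ (P : Subgroup G) := fun _ hw => hw.1
  have hA : Nat.card {x : ↥(P : Subgroup G) // traceSize (P : Subgroup G) x = 1} =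
      Nat.card (zCent P) := card_trace_one hO
  have hz0pos : 0 < Nat.card (zCent P) := Nat.card_pos
  -- elements outside `W` have three conjugates
  set U := {x : ↥(P : Subgroup G) // (x : G) ∉ W}
  have hUB : Nat.card U ≤
      Nat.card {x : ↥(P : Subgroup G) // 3 ≤ traceSize (P : Subgroup G) x} :=
    Nat.card_le_card_of_injective
      (fun x => ⟨x.1, hd.big_of_not_fixed x.1.2 fun hf => x.2 ⟨x.1.2, hf⟩⟩)
      fun a b hab => Subtype.ext (Subtype.ext (congrArg (fun v => ((v.1 : ↥(P : Subgroup G)) : G)) hab :))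
  have hsplit : Nat.card ↥(P : Subgroup G) = Nat.card W + Nat.card U := by
    have e := Nat.card_congr (Equiv.sumCompl fun x : ↥(P : Subgroup G) => (x : G) ∈ W).symm
    rw [Nat.card_sum] at e
    rw [e, ← Nat.card_congr (subgroupOfEquivOfLe hWP).toEquiv]
    rfl
  have hB3 := card_big P h
  have hone := card_one P h
  obtain ⟨e, he⟩ := IsPGroup.iff_card.1 P.2
  have hZ0W : zCent P ≤ W := fun w hw => ⟨hw.1, fun n _ => Or.inl (by
    rw [mem_center_iff.1 hw.2 n, mul_inv_cancel_right])⟩
  have hWle : Nat.card (zCent P) ≤ Nat.card W := card_le_of_le hZ0W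
  by_cases hall : ∀ x ∈ (P : Subgroup G), FixedMod P z x
  · haveI : IsEmpty {x : ↥(P : Subgroup G) // 3 ≤ traceSize (P : Subgroup G) x} :=
      ⟨fun x => hd.trace_le_two_of_fixed hzc hall x.1.2 x.2⟩
    rw [Nat.card_eq_zero.2 (Or.inl this), hA] at hone
    omega
  have hWne : W ≠ (P : Subgroup G) := fun e => hall fun x hx => ((e.symm ▸ hx : x ∈ W)).2
  obtain ⟨x₀, hx₀P, hx₀⟩ := SetLike.exists_of_lt (lt_of_le_of_ne hWP hWne)
  have hWdvd := card_dvd_of_le hWP
  obtain ⟨w, hw, hwc⟩ := (Nat.dvd_prime_pow Nat.prime_two).1 (he ▸ hWdvd)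
  have hWlt : w < e := by
    by_contra hge
    refine hWne (eq_of_le_of_card_ge hWP ?_)
    rw [he, hwc]
    exact Nat.pow_le_pow_right two_pos (not_lt.1 hge)
  have hW2 : 2 * Nat.card W ≤ Nat.card ↥(P : Subgroup G) := by
    rw [he, hwc, ← pow_succ']
    exact Nat.pow_le_pow_right two_pos hWlt
  -- the centre of `P`
  have hZle : Nat.card (zCent P) ≤ Nat.card Zp := card_le_of_le fun w hw =>
    hmemZ.2 ⟨hw.1, fun s _ => mem_center_iff.1 hw.2 s⟩
  obtain ⟨c, -, hcc⟩ := (Nat.dvd_prime_pow Nat.prime_two).1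
    (he ▸ card_dvd_of_le (inf_le_left : Zp ≤ P))
  have h4Z : 4 * Nat.card Zp ≤ Nat.card ↥(P : Subgroup G) := by
    by_contra hlt
    have hce : e ≤ c + 1 := by
      by_contra hlt'
      refine hlt ?_
      rw [he, hcc, show 4 * 2 ^ c = 2 ^ (c + 2) by ring]
      exact Nat.pow_le_pow_right two_pos (by omega)
    refine hna ?_
    obtain ⟨b, hbP, hb⟩ : ∃ b ∈ (P : Subgroup G), ∀ x ∈ (P : Subgroup G),
        x ∈ Zp ∨ b⁻¹ * x ∈ Zp := by
      have hrel : Zp.relIndex P ∣ 2 := by
        have hm := (Zp.subgroupOf P).card_mul_index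
        rw [Nat.card_congr (subgroupOfEquivOfLe (inf_le_left : Zp ≤ P)).toEquiv, he, hcc] at hm
        obtain ⟨r, -, hr⟩ := (Nat.dvd_prime_pow Nat.prime_two).1
          (⟨2 ^ c, by rw [← hm, mul_comm]⟩ : (Zp.subgroupOf P).index ∣ 2 ^ e)
        rw [hr, ← pow_add] at hm
        have := Nat.pow_right_injective le_rfl hm
        rw [relIndex, hr]
        exact (pow_dvd_pow 2 (by omega : r ≤ 1)).trans (pow_one 2).dvd
      by_cases hb0 : ∀ x ∈ (P : Subgroup G), x ∈ Zp
      · exact ⟨1, one_mem _, fun x hx => Or.inl (hb0 x hx)⟩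
      · push Not at hb0
        obtain ⟨b, hbP, hbZ⟩ := hb0
        refine ⟨b, hbP, fun x hx => or_iff_not_imp_left.2 fun hxZ => ?_⟩
        have h2 : (Zp.subgroupOf P).index = 2 := by
          rcases (Nat.dvd_prime Nat.prime_two).1 hrel with e1 | e2
          · exact absurd ((index_eq_one.1 e1).symm ▸ mem_top (⟨b, hbP⟩ : ↥(P : Subgroup G)) :
              (⟨b, hbP⟩ : ↥(P : Subgroup G)) ∈ Zp.subgroupOf P) hbZ
          · exact e2
        have := (mul_mem_iff_of_index_two h2 (a := (⟨b, hbP⟩ : ↥(P : Subgroup G))⁻¹)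
          (b := ⟨x, hx⟩)).2 (by rw [inv_mem_iff]; exact iff_of_false hbZ hxZ)
        exact this
    have hbcomm : ∀ x ∈ (P : Subgroup G), b * x = x * b := by
      intro x hx
      rcases hb x hx with h' | h'
      · exact (hmemZ.1 h').2 b hbP
      · calc b * x = b * (b * (b⁻¹ * x)) := by group
          _ = b * ((b⁻¹ * x) * b) := by rw [(hmemZ.1 h').2 b hbP]
          _ = x * b := by group
    intro x hx y hy
    rcases hb x hx with h' | h'
    · exact ((hmemZ.1 h').2 y hy).symm
    · calc x * y = b * ((b⁻¹ * x) * y) := by group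
        _ = b * (y * (b⁻¹ * x)) := by rw [(hmemZ.1 h').2 y hy]
        _ = (b * y) * (b⁻¹ * x) := by group
        _ = y * x := by rw [hbcomm y hy]; group
  -- arithmetic: `|P : Z| = 4` and `Z = P ∩ Z(G)`
  obtain ⟨d, -, hdc⟩ := (Nat.dvd_prime_pow Nat.prime_two).1
    (he ▸ card_dvd_of_le (show zCent P ≤ (P : Subgroup G) from fun w hw => hw.1))
  rw [hA] at hB3
  have hkey : Nat.card ↥(P : Subgroup G) ≤ 6 * Nat.card (zCent P) := by omega
  have hde : e ≤ d + 2 := by
    by_contra hlt
    rw [he, hdc] at hkey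
    have : 2 ^ (d + 3) ≤ 2 ^ e := Nat.pow_le_pow_right two_pos (by omega)
    rw [pow_add] at this
    have := Nat.two_pow_pos d
    omega
  have hP4 : Nat.card ↥(P : Subgroup G) ≤ 4 * Nat.card (zCent P) := by
    rw [he, hdc, show 4 * 2 ^ d = 2 ^ (d + 2) by ring]
    exact Nat.pow_le_pow_right two_pos hde
  have hZeq : Zp = zCent P := (eq_of_le_of_card_ge
    (fun w hw => hmemZ.2 ⟨hw.1, fun s _ => mem_center_iff.1 hw.2 s⟩ : zCent P ≤ Zp)
    (by omega)).symm
  -- no element has exactly three conjugates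
  have h4 : ∀ x : ↥(P : Subgroup G), 3 ≤ traceSize (P : Subgroup G) x →
      4 ≤ traceSize (P : Subgroup G) x := by
    intro x hx3
    have hnc : ¬ ∀ s ∈ (P : Subgroup G), s * (x : G) = x * s := fun hc => by
      have : (x : G) ∈ zCent P := hZeq ▸ hmemZ.2 ⟨x.2, hc⟩
      have := trace_one_of_mem_center x.2 this.2
      omega
    obtain ⟨s, hs, e⟩ := (hd.central_or_moved x.2).resolve_left hnc
    obtain ⟨y, hyP, hxy, hy1, hy2⟩ : ∃ y ∈ (P : Subgroup G), IsConj (x : G) y ∧ y ≠ x ∧ y ≠ x * z := by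
      by_contra hc
      push Not at hc
      have hle : Nat.card {y : G // y ∈ (P : Subgroup G) ∧ IsConj (x : G) y} ≤ 2 := by
        refine (Nat.card_le_card_of_injective (α := {y : G // y ∈ (P : Subgroup G) ∧ IsConj (x : G) y})
          (β := ↥({(x : G), x * z} : Finset G))
          (fun y => ⟨(y : G), ?_⟩) fun a b hab => Subtype.ext (by simpa using hab)).trans ?_
        · rcases eq_or_ne (y : G) x with e | e
          · simp [e]
          · simp [hc y y.2.1 y.2.2 e]
        · rw [Nat.card_eq_finsetCard]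
          exact Finset.card_le_two
      rw [traceSize] at hx3
      omega
    have hync : ¬ ∀ s ∈ (P : Subgroup G), s * y = y * s := fun hc => by
      have hy0 : y ∈ zCent P := hZeq ▸ hmemZ.2 ⟨hyP, hc⟩
      obtain ⟨g, hg⟩ := isConj_iff.1 hxy.symm
      rw [mem_center_iff.1 hy0.2 g, mul_inv_cancel_right] at hg
      exact hy1 hg
    obtain ⟨s', hs', e'⟩ := (hd.central_or_moved hyP).resolve_left hync
    refine four_le_trace x.2 (mul_mem x.2 hd.mem) hyP (mul_mem hyP hd.mem) (IsConj.refl _)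
      (hd.isConj_mul e) hxy (hxy.trans (hd.isConj_mul e')) (Ne.symm hd.self_ne) (Ne.symm hy1) ?_
      (Ne.symm hy2) ?_ (Ne.symm hd.self_ne)
    · intro h'
      exact hy2 (by rw [h', mul_assoc, hd.sq, mul_one])
    · exact fun h' => hy1 (mul_right_cancel h').symm
  have hB4 := card_big_four P h h4
  rw [hA] at hB4
  have hWhalf : Nat.card ↥(P : Subgroup G) = 2 * Nat.card W := by omega
  have hidx : (W.subgroupOf (P : Subgroup G)).index = 2 := by
    have hm := (W.subgroupOf (P : Subgroup G)).card_mul_index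
    rw [Nat.card_congr (subgroupOfEquivOfLe hWP).toEquiv, hWhalf, mul_comm 2] at hm
    exact Nat.eq_of_mul_eq_mul_left Nat.card_pos hm
  refine hx₀ ⟨hx₀P, hd.fixed_of_index_two hzc hx₀P fun a ha b hb han hbn => ?_⟩
  have haW : (⟨a, ha⟩ : ↥(P : Subgroup G))⁻¹ ∉ W.subgroupOf (P : Subgroup G) := fun h' =>
    han ((inv_mem_iff.1 h' : (⟨a, ha⟩ : ↥(P : Subgroup G)) ∈ W.subgroupOf (P : Subgroup G))).2
  exact ((mul_mem_iff_of_index_two hidx (a := (⟨a, ha⟩ : ↥(P : Subgroup G))⁻¹) (b := ⟨b, hb⟩)).2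
    (iff_of_false haW fun h' => hbn h'.2)).2

/-- The case of derived subgroup of order two. -/
theorem four (hO : oddCore G = ⊥) (h : HalfClassesHyp P)
    (hna : ¬ ∀ x ∈ (P : Subgroup G), ∀ y ∈ (P : Subgroup G), x * y = y * x) : HasFourResidual P := by
  classical
  have hzc := hd.not_mem_center hO h hna
  -- a non-central conjugate of `z`
  obtain ⟨a, haP, hza, haz⟩ := exists_conj_ne hd.mem fun h1 => hzc (mem_center_of_trace_one hO hd.mem h1)
  have hanc : ¬ ∀ s ∈ (P : Subgroup G), s * a = a * s := by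
    intro hac
    obtain ⟨n, hn, hne⟩ := burnside hd.cen hac hza
    have haD : a ∈ ⁅(P : Subgroup G), (P : Subgroup G)⁆ := by
      rw [← hne]
      have h1 : n * z * n⁻¹ ∈ (⁅(P : Subgroup G), (P : Subgroup G)⁆).map (MulAut.conj n).toMonoidHom :=
        ⟨z, hd.mem_comm, rfl⟩
      have hmap : (P : Subgroup G).map (MulAut.conj n).toMonoidHom = P := by
        ext w
        constructor
        · rintro ⟨v, hv, rfl⟩; exact (mem_normalizer_iff.1 hn v).1 hv
        · intro hw
          refine ⟨n⁻¹ * w * n, ?_, by simp [mul_assoc]⟩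
          have := (mem_normalizer_iff.1 (inv_mem hn) w).1 hw
          rwa [inv_inv] at this
      rwa [map_commutator, hmap] at h1
    rcases hd.comm_eq a haD with e | e
    · obtain ⟨g, hg⟩ := isConj_iff.1 hza
      rw [e] at hg
      exact hd.ne (conj_eq_one_iff.1 hg)
    · exact haz e
  obtain ⟨s, hs, hsa⟩ := (hd.central_or_moved haP).resolve_left hanc
  obtain ⟨g, hg⟩ := isConj_iff.1 hza
  have haa : a * a = 1 := by rw [← hg, conj_mul, hd.sq]; group
  have hazc : a * z = z * a := hd.cen a haP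
  have hzza : z * (z * a) = a := by rw [← mul_assoc, hd.sq, one_mul]
  -- the classes `{z c, a c, a z c}`
  have key : ∀ c ∈ zCent P, ∀ w ∈ ({z, a, a * z} : Finset G), IsConj (z * c) (w * c) := by
    intro c hc w hw
    have hcc : ∀ r : G, r * c = c * r := mem_center_iff.1 hc.2
    have h0 : IsConj z w := by
      simp only [Finset.mem_insert, Finset.mem_singleton] at hw
      rcases hw with rfl | rfl | rfl
      · exact IsConj.refl _
      · exact hza
      · exact hza.trans (hd.isConj_mul hsa)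
    obtain ⟨r, hr⟩ := isConj_iff.1 h0
    refine isConj_iff.2 ⟨r, ?_⟩
    rw [← hr, show r * (z * c) * r⁻¹ = r * z * (c * r⁻¹) by group, ← hcc r⁻¹]
    group
  set T := {w : G // w ∈ ({z, a, a * z} : Finset G)}
  have hT : ∀ w ∈ ({z, a, a * z} : Finset G), w ∈ (P : Subgroup G) ∧ w * z = z * w := by
    intro w hw
    simp only [Finset.mem_insert, Finset.mem_singleton] at hw
    rcases hw with rfl | rfl | rfl
    · exact ⟨hd.mem, rfl⟩
    · exact ⟨haP, hazc⟩
    · exact ⟨mul_mem haP hd.mem, by rw [hazc, mul_assoc, hazc]⟩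
  have hcardT : Nat.card T = 3 := by
    rw [Nat.card_eq_finsetCard, Finset.card_insert_of_notMem, Finset.card_pair (Ne.symm hd.self_ne)]
    simp only [Finset.mem_insert, Finset.mem_singleton, not_or]
    refine ⟨Ne.symm haz, fun h' => ?_⟩
    have : a = 1 := mul_eq_right.1 h'.symm
    rw [this] at hg
    exact hd.ne (conj_eq_one_iff.1 hg)
  have hbig : ∀ (w : T) (c : zCent P), 3 ≤ traceSize (P : Subgroup G) ((w : G) * c) := by
    intro w c
    refine three_le_trace (x := (w : G) * c) (mul_mem hd.mem c.2.1) (mul_mem haP c.2.1)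
      (mul_mem (mul_mem haP hd.mem) c.2.1) ((key c c.2 w w.2).symm)
      ((key c c.2 w w.2).symm.trans (key c c.2 a (by simp)))
      ((key c c.2 w w.2).symm.trans (key c c.2 (a * z) (by simp)))
      (fun h' => haz (mul_right_cancel h').symm) (fun h' => ?_) (fun h' => ?_)
    · have : a = 1 := mul_eq_right.1 (mul_right_cancel h').symm
      rw [this] at hg
      exact hd.ne (conj_eq_one_iff.1 hg)
    · exact hd.self_ne (mul_right_cancel h').symm
  set f : T × zCent P → {x : ↥(P : Subgroup G) // 3 ≤ traceSize (P : Subgroup G) x} :=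
    fun wc => ⟨⟨(wc.1 : G) * wc.2, mul_mem (hT _ wc.1.2).1 wc.2.2.1⟩, hbig wc.1 wc.2⟩ with hf
  have hfinj : Function.Injective f := by
    rintro ⟨⟨w, hw⟩, c⟩ ⟨⟨w', hw'⟩, c'⟩ heq
    have he : w * (c : G) = w' * c' := congrArg (fun x => ((x.1 : ↥(P : Subgroup G)) : G)) heq
    have hww : w = w' := by
      -- `w⁻¹ w'` is central
      have hq : w'⁻¹ * w = (c' : G) * (c : G)⁻¹ :=
        calc w'⁻¹ * w = w'⁻¹ * (w * c) * (c : G)⁻¹ := by group
          _ = _ := by rw [he, inv_mul_cancel_left]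
      have hqc : w'⁻¹ * w ∈ center G := hq ▸ mul_mem c'.2.2 (inv_mem c.2.2)
      simp only [Finset.mem_insert, Finset.mem_singleton] at hw hw'
      have hac : a ∉ center G := fun h' => hanc fun r _ => mem_center_iff.1 h' r
      have hazn : a * z ∉ center G := fun h' => hanc fun r hr => by
        have h1 := mem_center_iff.1 h' r
        calc r * a = r * (a * z) * z := by rw [mul_assoc, mul_assoc, hd.sq, mul_one]
          _ = a * (z * r) * z := by rw [h1]; group
          _ = a * r := by rw [← hd.cen r hr, ← mul_assoc, mul_assoc, hd.sq, mul_one]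
      have hza' : z * a ∉ center G := hazc ▸ hazn
      have hzi : z⁻¹ = z := inv_eq_of_mul_eq_one_left hd.sq
      have hai : a⁻¹ = a := inv_eq_of_mul_eq_one_left haa
      rcases hw with rfl | rfl | rfl <;> rcases hw' with rfl | rfl | rfl <;> try rfl
      · exact absurd (hai ▸ hqc) hazn
      · refine absurd ?_ hac
        rwa [mul_inv_rev, hzi, hai, mul_assoc, hazc, hzza] at hqc
      · exact absurd (hzi ▸ hqc) hza'
      · refine absurd ?_ hzc
        rwa [mul_inv_rev, hzi, hai, mul_assoc, haa, mul_one] at hqc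
      · refine absurd ?_ hac
        rwa [hzi, hazc, hzza] at hqc
      · refine absurd ?_ hzc
        rwa [hai, ← mul_assoc, haa, one_mul] at hqc
    subst hww
    exact Prod.ext rfl (Subtype.ext (mul_left_cancel he))
  have hA := card_trace_one (P := P) hO
  have hB3 := card_big P h
  have hge : 3 * Nat.card (zCent P) ≤
      Nat.card {x : ↥(P : Subgroup G) // 3 ≤ traceSize (P : Subgroup G) x} := by
    have := Nat.card_le_card_of_injective f hfinj
    rwa [Nat.card_prod, hcardT] at this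
  rw [hA] at hB3
  have hfsurj : Function.Surjective f :=
    (hfinj.bijective_of_nat_card_le (by rw [Nat.card_prod, hcardT]; exact hB3)).2
  have heq3 : ∀ x : ↥(P : Subgroup G), 3 ≤ traceSize (P : Subgroup G) x →
      traceSize (P : Subgroup G) x = 3 := trace_eq_three P h (by rw [hA]; exact hge)
  -- the four-group
  have hazc' : z * a = a * z := hazc.symm
  have hazc'' : ∀ q : G, z * (a * q) = a * (z * q) := fun q => by rw [← mul_assoc, hazc', mul_assoc]
  have haq : ∀ q : G, a * (a * q) = q := fun q => by rw [← mul_assoc, haa, one_mul]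
  have hzq : ∀ q : G, z * (z * q) = q := fun q => by rw [← mul_assoc, hd.sq, one_mul]
  let V : Subgroup G :=
    { carrier := {q | q = 1 ∨ q = z ∨ q = a ∨ q = a * z}
      one_mem' := Or.inl rfl
      mul_mem' := by
        intro p q hp hq
        rcases hp with e | e | e | e <;> rcases hq with e' | e' | e' | e' <;> rw [e, e'] <;>
          simp [haa, hd.sq, hazc', hazc'', haq, mul_assoc]
      inv_mem' := by
        intro p hp
        rcases hp with e | e | e | e <;> rw [e]
        · simp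
        · exact Or.inr (Or.inl (inv_eq_of_mul_eq_one_left hd.sq))
        · exact Or.inr (Or.inr (Or.inl (inv_eq_of_mul_eq_one_left haa)))
        · exact Or.inr (Or.inr (Or.inr (by
            rw [mul_inv_rev, inv_eq_of_mul_eq_one_left hd.sq, inv_eq_of_mul_eq_one_left haa, hazc]))) }
  have hVcard : Nat.card V ≤ 4 := by
    refine (Nat.card_le_card_of_injective (α := V) (β := ↥({1, z, a, a * z} : Finset G))
      (fun q => ⟨(q : G), ?_⟩) fun p q hpq => by simpa using hpq).trans ?_
    · rcases q.2 with e | e | e | e <;> simp [e]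
    · rw [Nat.card_eq_finsetCard]
      exact Finset.card_le_four
  -- fusion moves elements of `P` inside their cosets of `V`
  have hfus : ∀ x ∈ (P : Subgroup G), ∀ y ∈ (P : Subgroup G), IsConj x y → x⁻¹ * y ∈ V := by
    intro x hx y hy hxy
    rcases lt_trichotomy (traceSize (P : Subgroup G) x) 3 with hlt | he3 | hgt
    · by_cases hxc : ∀ r ∈ (P : Subgroup G), r * x = x * r
      · have h2 := hd.trace_ne_two_central hx hxc
        have h1 := one_le_trace hx
        have hc := mem_center_of_trace_one hO hx (by omega)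
        obtain ⟨r, rfl⟩ := isConj_iff.1 hxy
        rw [mem_center_iff.1 hc r, mul_inv_cancel_right, inv_mul_cancel]
        exact one_mem _
      · rcases hd.eq_of_trace_le_two hx hy hxy hxc (by omega) with rfl | rfl
        · rw [inv_mul_cancel]; exact one_mem _
        · rw [inv_mul_cancel_left]; exact Or.inr (Or.inl rfl)
    · obtain ⟨⟨⟨w, hw⟩, c⟩, hwc⟩ := hfsurj ⟨⟨x, hx⟩, he3.ge⟩
      have hxe : w * (c : G) = x := congrArg (fun v => ((v.1 : ↥(P : Subgroup G)) : G)) hwc
      have hmem : ∃ w' ∈ ({z, a, a * z} : Finset G), y = w' * c := by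
        by_contra hcon
        push Not at hcon
        have hz' := hcon z (by simp)
        have ha' := hcon a (by simp)
        have haz' := hcon (a * z) (by simp)
        have hxz := key c c.2 w hw
        rw [hxe] at hxz
        have := four_le_trace (P := P) (x := x) (mul_mem hd.mem c.2.1) (mul_mem haP c.2.1)
          (mul_mem (mul_mem haP hd.mem) c.2.1) hy hxz.symm
          (hxz.symm.trans (key c c.2 a (by simp))) (hxz.symm.trans (key c c.2 (a * z) (by simp)))
          hxy (fun e => haz (mul_right_cancel e).symm) (fun e => ?_) (Ne.symm hz')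
          (fun e => hd.self_ne (mul_right_cancel e).symm) (Ne.symm ha') (Ne.symm haz')
        · omega
        · have : a = 1 := mul_eq_right.1 (mul_right_cancel e).symm
          rw [this] at hg
          exact hd.ne (conj_eq_one_iff.1 hg)
      obtain ⟨w', hw', rfl⟩ := hmem
      have : x⁻¹ * (w' * c) = w⁻¹ * w' := by
        rw [← hxe, mul_inv_rev, show (c : G)⁻¹ * w⁻¹ * (w' * c) = (c : G)⁻¹ * (w⁻¹ * w' * c) by group,
          mem_center_iff.1 c.2.2, inv_mul_cancel_left]
      rw [this]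
      have hin : ∀ v ∈ ({z, a, a * z} : Finset G), v ∈ V := by
        intro v hv
        simp only [Finset.mem_insert, Finset.mem_singleton] at hv
        exact Or.inr hv
      exact mul_mem (inv_mem (hin w hw)) (hin w' hw')
    · exact absurd (heq3 ⟨x, hx⟩ hgt.le) (by simpa using hgt.ne')
  have hfoc : commutator G ⊓ (P : Subgroup G) ≤ V := by
    rw [commutator_inf_eq_focalSubgroup, focalSubgroup_def, closure_le]
    rintro _ ⟨hq, x, hx, r, rfl⟩
    have hy : r * x⁻¹ * r⁻¹ ∈ (P : Subgroup G) := by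
      have : r * x⁻¹ * r⁻¹ = x⁻¹ * ⁅x, r⁆ := by rw [commutatorElement_def]; group
      rw [this]
      exact mul_mem (inv_mem hx) hq
    have := hfus x⁻¹ (inv_mem hx) _ hy (isConj_iff.2 ⟨r, rfl⟩)
    rwa [inv_inv, show x * (r * x⁻¹ * r⁻¹) = ⁅x, r⁆ by rw [commutatorElement_def]; group] at this
  have hQV : (P : Subgroup G) ⊓ pResidual 2 G ≤ V :=
    (le_inf inf_le_commutator inf_le_left).trans hfoc
  have hP : (P : Subgroup G) ≠ ⊤ := fun htop =>
    hzc (mem_center_iff.2 fun r => hd.cen r (htop ▸ mem_top r))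
  obtain ⟨h4, hexp⟩ := four_of_small hO hP ((card_le_of_le hQV).trans hVcard)
  refine ⟨h4, hexp, fun q hq => ?_⟩
  have hQe : (P : Subgroup G) ⊓ pResidual 2 G = V :=
    eq_of_le_of_card_ge hQV (hVcard.trans h4.ge)
  rw [hQe]
  rcases hd.comm_eq q hq with e | e
  · exact Or.inl e
  · exact Or.inr (Or.inl e)

end Comm2

/-- Half as many classes of 2-elements as elements of `P`: `P ∩ O²(G)` is a four-group over `P'`. -/
theorem hasFourResidual (hO : oddCore G = ⊥) (h : HalfClassesHyp P) : HasFourResidual P := by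
  by_cases hab : ∀ x ∈ (P : Subgroup G), ∀ y ∈ (P : Subgroup G), x * y = y * x
  · exact four_abelian hO h hab
  · obtain ⟨z, hd⟩ := exists_comm2 h hab
    exact hd.four hO h hab

end Cfsg.Agent.Lib.HalfClasses
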